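import Groth.Agent.ModifPtLib.Up
import Groth.Agent.FinPicLib.Topo

/-!
# Equations of points on reduced curves
-/

set_option autoImplicit false
set_option maxHeartbeats 800000
set_option linter.style.haveILetI false
set_option backward.isDefEq.respectTransparency false
universe u

open CategoryTheory CategoryTheory.Limits AlgebraicGeometry TopologicalSpace Opposite DevissLib
open scoped nonZeroDivisors

noncomputable section

namespace ModifPtLib

variable {X : Scheme.{u}}

theorem isClosed_of_not_isGen (hdim : topologicalKrullDim X ≤ 1) {y : X} (hy : ¬ FinPicLib.IsGen y) :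
    IsClosed ({y} : Set X) := by
  rw [← closure_subset_iff_isClosed]
  exact fun w hw => (FinPicLib.eq_of_specializes_of_not_isGen hdim hy (specializes_iff_mem_closure.2 hw)).symm

theorem mem_nonZeroDivisors_of_notMem_minimalPrimes {R : Type*} [CommRing R] [_root_.IsReduced R] {g : R}
    (hg : ∀ q ∈ minimalPrimes R, g ∉ q) : g ∈ R⁰ := by
  rw [mem_nonZeroDivisors_iff_right]
  intro a ha
  have h : a ∈ sInf (minimalPrimes R) := Submodule.mem_sInf.2 fun q hq =>
    (hq.1.1.mem_or_mem (show a * g ∈ q by rw [ha]; exact zero_mem _)).resolve_right (hg q hq)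
  have h' : sInf (minimalPrimes R) = (⊥ : Ideal R).radical := Ideal.sInf_minimalPrimes
  rw [h'] at h
  exact (IsReduced.eq_zero a (h.imp fun n hn => (Submodule.mem_bot R).1 hn))

/-- Equations of finitely many points of a reduced curve, none of them generic. -/
theorem exists_data [IsNoetherian X] [AlgebraicGeometry.IsReduced X] (hdim : topologicalKrullDim X ≤ 1)
    (T : Finset X) (hT : ∀ x ∈ T, ¬ FinPicLib.IsGen x) :
    ∃ D : Data T, ∀ x (hx : x ∈ T),
      (D.d x hx).z ∈ (X.presheaf.stalk x)⁰ ∧ (D.d x hx).z ∈ IsLocalRing.maximalIdeal (X.presheaf.stalk x) := by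
  classical
  have hTc : ∀ S : Finset X, S ⊆ T → IsClosed (S : Set X) := fun S hS => by
    have h := Set.Finite.isClosed_biUnion (Finset.finite_toSet S) (f := fun x : X => ({x} : Set X))
      fun x hx => isClosed_of_not_isGen hdim (hT x (hS hx))
    rwa [Set.biUnion_of_singleton] at h
  let U : X.Opens := ⟨(T : Set X)ᶜ, (hTc T subset_rfl).isOpen_compl⟩
  have key : ∀ x ∈ T, ∃ d : Punct U x, d.z ∈ (X.presheaf.stalk x)⁰ ∧
      d.z ∈ IsLocalRing.maximalIdeal (X.presheaf.stalk x) := by
    intro x hx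
    obtain ⟨V, hV, hxV, hVT⟩ := TopologicalSpace.Opens.isBasis_iff_nbhd.mp X.isBasis_affineOpens
      (show x ∈ (⟨((T.erase x : Finset X) : Set X)ᶜ, (hTc _ (Finset.erase_subset _ _)).isOpen_compl⟩ : X.Opens)
        from fun h => (Finset.notMem_erase x T) h)
    haveI : IsNoetherianRing Γ(X, V) := IsLocallyNoetherian.component_noetherian ⟨V, hV⟩
    haveI : _root_.IsReduced Γ(X, V) := inferInstance
    let px := hV.primeIdealOf ⟨x, hxV⟩
    have hgen : ∀ (y : X) (hy : y ∈ V), (hV.primeIdealOf ⟨y, hy⟩).asIdeal ∈ minimalPrimes Γ(X, V) →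
        FinPicLib.IsGen y := by
      intro y hy hmin w hw
      have hwV : w ∈ V := hw.mem_open V.2 hy
      have hle : hV.primeIdealOf ⟨w, hwV⟩ ≤ hV.primeIdealOf ⟨y, hy⟩ := (PrimeSpectrum.le_iff_specializes _ _).2
        (hV.fromSpec.isOpenEmbedding.isInducing.specializes_iff.1 (by
          rw [hV.fromSpec_primeIdealOf, hV.fromSpec_primeIdealOf]; exact hw))
      have he : hV.primeIdealOf ⟨w, hwV⟩ = hV.primeIdealOf ⟨y, hy⟩ :=
        le_antisymm hle (hmin.2 ⟨(hV.primeIdealOf ⟨w, hwV⟩).2, bot_le⟩ hle)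
      have := congrArg hV.fromSpec he
      rwa [hV.fromSpec_primeIdealOf, hV.fromSpec_primeIdealOf] at this
    obtain ⟨g, hgx, hg⟩ : ∃ g ∈ px.asIdeal, ∀ q ∈ minimalPrimes Γ(X, V), g ∉ q := by
      by_contra h
      push Not at h
      have hfin : (minimalPrimes Γ(X, V)).Finite := minimalPrimes.finite_of_isNoetherianRing Γ(X, V)
      obtain ⟨q, hq, hle⟩ := (Ideal.subset_union_prime (s := hfin.toFinset) (f := id) (I := px.asIdeal) ⊤ ⊤
        fun i hi _ _ => (hfin.mem_toFinset.1 hi).1.1).1 (fun a ha => by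
          obtain ⟨q, hq, haq⟩ := h a ha
          exact Set.mem_biUnion (x := q) (hfin.mem_toFinset.2 hq) haq)
      have hq' := hfin.mem_toFinset.1 hq
      refine hT x hx (hgen x hxV ?_)
      have : px.asIdeal = q := le_antisymm hle (hq'.2 ⟨px.2, bot_le⟩ hle)
      exact this ▸ hq'
    have hmem : ∀ (y : X) (hy : y ∈ V), y ∈ X.basicOpen g ↔ g ∉ (hV.primeIdealOf ⟨y, hy⟩).asIdeal := fun y hy => by
      conv_lhs => rw [show y = hV.fromSpec (hV.primeIdealOf ⟨y, hy⟩) from (hV.fromSpec_primeIdealOf ⟨y, hy⟩).symm]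
      show hV.primeIdealOf ⟨y, hy⟩ ∈ hV.fromSpec ⁻¹ᵁ X.basicOpen g ↔ _
      rw [hV.fromSpec_preimage_basicOpen]
      rfl
    let C : Set ↥V := {y | y.1 ∉ X.basicOpen g}
    have hC : IsClosed C := (X.basicOpen g).2.isClosed_compl.preimage continuous_subtype_val
    have hCgen : ∀ y ∈ C, ¬ FinPicLib.IsGen y.1 := fun y hy hgy => by
      obtain ⟨q, hq, hqle⟩ := Ideal.exists_minimalPrimes_le
        (I := (⊥ : Ideal Γ(X, V))) (J := (hV.primeIdealOf y).asIdeal) bot_le
      let q' : PrimeSpectrum Γ(X, V) := ⟨q, hq.1.1⟩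
      have h1 : hV.fromSpec q' ⤳ y.1 := by
        rw [← hV.fromSpec_primeIdealOf y]
        exact ((PrimeSpectrum.le_iff_specializes q' _).1 hqle).map hV.fromSpec.continuous
      have h2 : q' = hV.primeIdealOf y :=
        hV.fromSpec.isOpenEmbedding.injective ((hgy _ h1).trans (hV.fromSpec_primeIdealOf y).symm)
      have h3 : g ∈ (hV.primeIdealOf y).asIdeal := not_not.1 fun h => hy ((hmem y.1 y.2).2 h)
      exact hg q hq (by rw [← h2] at h3; exact h3)
    have hCfin : C.Finite := by
      haveI : NoetherianSpace ↥V := Topology.IsInducing.subtypeVal.noetherianSpace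
      haveI : QuasiSober ↥V := V.2.isOpenEmbedding_subtypeVal.quasiSober
      obtain ⟨S, hSfin, hSc, hSi, hCS⟩ := NoetherianSpace.exists_finite_set_isClosed_irreducible hC
      rw [hCS]
      refine hSfin.sUnion fun t ht => ?_
      obtain ⟨η, hη⟩ := QuasiSober.sober (hSi t ht) (hSc t ht)
      have hηt : η ∈ t := hη.def ▸ subset_closure (Set.mem_singleton η)
      refine (Set.finite_singleton η).subset fun w hw => ?_
      have h1 : η ⤳ w := specializes_iff_mem_closure.2 (hη.def.symm ▸ hw)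
      exact (Subtype.ext (FinPicLib.eq_of_specializes_of_not_isGen hdim
        (hCgen η (hCS ▸ Set.mem_sUnion_of_mem hηt ht)) (h1.map continuous_subtype_val))).symm
    let Z : Set X := Subtype.val '' C \ {x}
    have hZ : IsClosed Z := by
      have h := Set.Finite.isClosed_biUnion (((hCfin.image Subtype.val).sdiff (t := {x}))) (f := fun x : X => ({x} : Set X))
        fun y hy => by
          obtain ⟨y', hy', rfl⟩ := hy.1
          exact isClosed_of_not_isGen hdim (hCgen y' hy')
      rwa [Set.biUnion_of_singleton] at h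
    obtain ⟨W, hW, hxW, hWZ⟩ := TopologicalSpace.Opens.isBasis_iff_nbhd.mp X.isBasis_affineOpens
      (show x ∈ V ⊓ (⟨Zᶜ, hZ.isOpen_compl⟩ : X.Opens) from ⟨hxV, fun h => h.2 rfl⟩)
    refine ⟨⟨W, hW, hxW, X.presheaf.map (homOfLE (hWZ.trans inf_le_left)).op g, ?_⟩, ?_, ?_⟩
    · rw [Scheme.basicOpen_res]
      ext y
      refine ⟨fun hy => ⟨hy.1, fun hyT => ?_⟩, fun hy => ⟨hy.1, ?_⟩⟩
      · have hyV : y ∈ V := (hWZ hy.1).1
        have : y = x := by
          by_contra hne
          exact hVT hyV (Finset.mem_coe.2 (Finset.mem_erase.2 ⟨hne, hyT⟩))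
        subst this
        exact (hmem _ hxV).1 hy.2 hgx
      · by_contra hyg
        refine (hWZ hy.1).2 ⟨⟨⟨y, (hWZ hy.1).1⟩, hyg, rfl⟩, fun hyx => hy.2 ?_⟩
        exact hyx ▸ hx
    all_goals
      show X.presheaf.germ W x hxW _ ∈ _
      rw [TopCat.Presheaf.germ_res_apply]
    · letI : Algebra Γ(X, V) (X.presheaf.stalk x) := (X.presheaf.germ V x hxV).hom.toAlgebra
      haveI : IsLocalization.AtPrime (X.presheaf.stalk x) px.asIdeal := hV.isLocalization_stalk ⟨x, hxV⟩
      exact IsLocalization.map_nonZeroDivisors_le px.asIdeal.primeCompl (X.presheaf.stalk x)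
        ⟨g, mem_nonZeroDivisors_of_notMem_minimalPrimes hg, rfl⟩
    · intro hu
      exact (hmem x hxV).1 ((X.mem_basicOpen g x hxV).2 hu) hgx
  choose d hd using key
  exact ⟨⟨U, fun p => Iff.rfl, d⟩, fun x hx => hd x hx⟩

end ModifPtLib

end
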