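import Groth.Agent.ModifPtLib.RankOneSheaf
import Groth.Agent.IntMultLib.CompSum
import Groth.Agent.CurvLib.EulerTensor
import Groth.Agent.SBTautLib.Index
import Groth.Agent.AVVanishLib.Family

/-!
# Degrees of tensor products of torsion-free sheaves of rank one
-/

set_option autoImplicit false
set_option maxHeartbeats 1000000
set_option linter.style.haveILetI false
set_option backward.isDefEq.respectTransparency false
universe u

open CategoryTheory CategoryTheory.Limits AlgebraicGeometry TopologicalSpace Opposite DevissLib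
open scoped TensorProduct

noncomputable section

namespace ModifPtLib

theorem euler_eq_of_stalks {k : Type u} [Field k] {X : Scheme.{u}} [X.Over (Spec (CommRingCat.of k))]
    [IsProper (X ↘ Spec (CommRingCat.of k))] {F G : X.Modules} (hF : Coh.IsCoh F)
    (hd : topologicalKrullDim (CohB1.support F) ≤ 0)
    (e : ∀ x, Nonempty ((St x).obj G ≃ₗ[X.presheaf.stalk x] (St x).obj F)) :
    Curv2.euler k X G = Curv2.euler k X F := by
  obtain ⟨hT, hTc⟩ := CurvLib.finite_support_data k hF hd
  have hcl := QCohLib.isClosed_support F hF.2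
  haveI := CurvLib.finite_HH (k := k) hF 0
  have hfinF := fun x => CurvLib.finite_stalk (k := k) F hT hTc subset_rfl x
  have hk : ∀ x,
      letI := CurvLib.stalkModule (k := k) F x
      letI := CurvLib.stalkModule (k := k) G x
      Nonempty ((St x).obj G ≃ₗ[k] (St x).obj F) := fun x => by
    letI := CurvLib.stalkModule (k := k) F x
    letI := CurvLib.stalkModule (k := k) G x
    obtain ⟨e⟩ := e x
    exact ⟨{ e.toAddEquiv with map_smul' := fun c z => e.map_smul (Curv2.stalkMap k X x c) z }⟩
  have hsupp : CohB1.support G ⊆ CohB1.support F := fun x hx => by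
    by_contra h
    obtain ⟨e⟩ := e x
    have hs : Subsingleton ((St x).obj F) := not_not.mp h
    exact hx (e.toEquiv.subsingleton_congr.mpr inferInstance)
  have hfin : ∀ x, letI := CurvLib.stalkModule (k := k) G x
      Module.Finite k ((St x).obj G) := fun x => by
    letI := CurvLib.stalkModule (k := k) F x
    letI := CurvLib.stalkModule (k := k) G x
    haveI := hfinF x
    obtain ⟨e⟩ := hk x
    exact Module.Finite.equiv e.symm
  rw [CurvLib.euler_eq_sum_stalks _ hT hcl hd hsupp hfin, CurvLib.euler_eq_sum_stalks F hT hcl hd subset_rfl hfinF]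
  congr 1
  refine Finset.sum_congr rfl fun x _ => ?_
  letI := CurvLib.stalkModule (k := k) F x
  letI := CurvLib.stalkModule (k := k) G x
  obtain ⟨e⟩ := hk x
  exact e.finrank_eq

/-- Tensoring is short exact if at each point the factor is flat or the sequence is trivial. -/
theorem shortExact_tensor {X : Scheme.{u}} (E : X.Modules) {S : ShortComplex X.Modules} (hS : S.ShortExact)
    (h : ∀ x, Module.Flat (X.presheaf.stalk x) ((St x).obj E) ∨ Function.Bijective ((St x).map S.f).hom) :
    (S.map (CurvLib.tensorLeft' E)).ShortExact := by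
  refine CurvLib.shortExact_of_stalks _ fun x => ?_
  let R := X.presheaf.stalk x
  have hx := hS.map_of_exact (St x)
  let T := (S.map (St x)).map (MonoidalCategory.tensorLeft ((St x).obj E))
  have hT : T.ShortExact :=
    { exact := (ShortComplex.ShortExact.moduleCat_exact_iff_function_exact (S := T)).2
        (lTensor_exact _ ((ShortComplex.ShortExact.moduleCat_exact_iff_function_exact _).1 hx.exact)
          ((ModuleCat.epi_iff_surjective _).mp hx.epi_g))
      mono_f := (ModuleCat.mono_iff_injective _).mpr (by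
        rcases h x with hf | hb
        · exact Module.Flat.lTensor_preserves_injective_linearMap _
            ((ModuleCat.mono_iff_injective _).mp hx.mono_f)
        · exact (LinearEquiv.lTensor ((St x).obj E) (LinearEquiv.ofBijective _ hb)).injective)
      epi_g := (ModuleCat.epi_iff_surjective _).mpr
        (LinearMap.lTensor_surjective _ ((ModuleCat.epi_iff_surjective _).mp hx.epi_g)) }
  exact ShortComplex.shortExact_of_iso
    (ShortComplex.isoMk (KFlatLib.stalkTensorIso E S.X₁ x) (KFlatLib.stalkTensorIso E S.X₂ x)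
      (KFlatLib.stalkTensorIso E S.X₃ x)
      (KFlatLib.stalkTensorIso_natural_right (M := E) x S.f).symm
      (KFlatLib.stalkTensorIso_natural_right (M := E) x S.g).symm :
      T ≅ (S.map (CurvLib.tensorLeft' E)).map (St x)) hT

theorem isGen_of_mem {X : Scheme.{u}} {η : X} (h : closure ({η} : Set X) ∈ irreducibleComponents (X : Type u)) :
    FinPicLib.IsGen η := fun z hz => by
  have h1 : closure ({η} : Set X) ⊆ closure ({z} : Set X) := (specializes_iff_closure_subset).1 hz
  have h2 : η ⤳ z := specializes_iff_closure_subset.2 (h.2 isIrreducible_singleton.closure h1)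
  exact (h2.antisymm hz).eq.symm

theorem deg_tensor_add (k : Type u) [Field k] [IsAlgClosed k] {X : Scheme.{u}} [X.Over (Spec (CommRingCat.of k))]
    [IsProper (X ↘ (Spec (CommRingCat.of k)))] (hdim : topologicalKrullDim X ≤ 1) (hX : Curv2.AtWorstNodal k X)
    (L M : X.Modules) (hLc : Coh.IsCoh L) (hMc : Coh.IsCoh M) (hLt : TorSh.IsTorsionFree L) (hMt : TorSh.IsTorsionFree M)
    (hLr : ∀ η : X, closure ({η} : Set X) ∈ irreducibleComponents (X : Type u) → Module.finrank (X.presheaf.stalk η) (L.presheaf.stalk η) = 1)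
    (hMr : ∀ η : X, closure ({η} : Set X) ∈ irreducibleComponents (X : Type u) → Module.finrank (X.presheaf.stalk η) (M.presheaf.stalk η) = 1)
    (hLM : ∀ P : X, (∃ U : X.Opens, P ∈ U ∧ Nonempty (L.restrict U.ι ≅ Coh.structureModule (↑U : Scheme.{u}))) ∨ (∃ U : X.Opens, P ∈ U ∧ Nonempty (M.restrict U.ι ≅ Coh.structureModule (↑U : Scheme.{u})))) :
    Curv2.deg k X (CohB1.tensorMod L M) 1 = Curv2.deg k X L 1 + Curv2.deg k X M 1 := by
  classical
  haveI := CurvLib.isNoetherian k (X := X)
  haveI := NodalLib.isReduced k hX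
  obtain ⟨T, hTcl, M', hM', hTS, hTpts, ⟨j, hj, hout, -⟩, -⟩ := exists_iso_idealMod_tensor k hdim hX M hMc hMt hMr
  have hM'c := CurvLib.isCoh_of_isInvertible hM'
  haveI := hj
  let S : ShortComplex X.Modules := ShortComplex.mk j (cokernel.π j) (cokernel.condition j)
  have hS : S.ShortExact := { exact := ShortComplex.exact_of_g_is_cokernel S (cokernelIsCokernel j) }
  have hQc : Coh.IsCoh (cokernel j) := QCohLib.isCoh_cokernel j hMc.1 hM'c
  have hQsub : ∀ x ∉ T, Subsingleton ((cokernel j).presheaf.stalk x) := fun x hx =>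
    subsingleton_cokernel_stalk j x (hout x hx).2
  have hLfree : ∀ x ∈ T, Nonempty (L.presheaf.stalk x ≃ₗ[X.presheaf.stalk x] X.presheaf.stalk x) := fun x hx => by
    have hns : ¬ ∃ U : X.Opens, x ∈ U ∧ Nonempty (M.restrict U.ι ≅ Coh.structureModule (↑U : Scheme.{u})) :=
      (hTS.symm ▸ (show x ∈ (T : Set X) from hx) : x ∈ {P : X | ¬ ∃ U : X.Opens, P ∈ U ∧ Nonempty (M.restrict U.ι ≅ Coh.structureModule (↑U : Scheme.{u}))})
    obtain ⟨U, hxU, ⟨e⟩⟩ := (hLM x).resolve_right hns
    exact stalk_iso_of_restrict (e ≪≫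
        { hom := Sigma.ι (fun _ : Fin 1 => Coh.structureModule (U : Scheme.{u})) 0
          inv := Sigma.desc fun _ => 𝟙 _
          hom_inv_id := Sigma.ι_desc _ _
          inv_hom_id := Sigma.hom_ext _ _ fun i => by fin_cases i; simp }) hxU rfl
  have hSE := shortExact_tensor L hS fun x => by
    by_cases hx : x ∈ T
    · exact Or.inl (Module.Flat.of_linearEquiv (hLfree x hx).some)
    · exact Or.inr (hout x hx)
  have e1 := CurvLib.euler_add_of_isCoh (k := k) hS hMc hM'c hQc
  have e2 := CurvLib.euler_add_of_isCoh (k := k) hSE (SBTaut.isCoh_tensor hLc hMc)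
    (SBTaut.isCoh_tensor hLc hM'c) (SBTaut.isCoh_tensor hLc hQc)
  change Curv2.euler k X M' = Curv2.euler k X M + Curv2.euler k X (cokernel j) at e1
  change Curv2.euler k X (CohB1.tensorMod L M') = Curv2.euler k X (CohB1.tensorMod L M) +
    Curv2.euler k X (CohB1.tensorMod L (cokernel j)) at e2
  have hd : topologicalKrullDim (CohB1.support (cokernel j)) ≤ 0 := by
    have hsub : CohB1.support (cokernel j) ⊆ (T : Set X) := fun x hx => not_not.1 fun h => hx (hQsub x h)
    exact AVVanishLib.topologicalKrullDim_le_zero_of_finite ((Finset.finite_toSet T).subset hsub) fun x hx => hTpts x (hsub hx)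
  have e3 : Curv2.euler k X (CohB1.tensorMod L (cokernel j)) = Curv2.euler k X (cokernel j) := by
    refine euler_eq_of_stalks hQc hd fun x => ?_
    let et := (LinearEquiv.ofBijective (KFlatLib.stalkTensorLin L (cokernel j) x)
      (KFlatLib.stalkTensorLin_bijective L (cokernel j) x)).symm
    by_cases hx : x ∈ T
    · obtain ⟨e⟩ := hLfree x hx
      exact ⟨et ≪≫ₗ TensorProduct.congr (show (St x).obj L ≃ₗ[X.presheaf.stalk x] X.presheaf.stalk x from e) (LinearEquiv.refl _ _) ≪≫ₗ TensorProduct.lid _ _⟩
    · haveI : Subsingleton ((St x).obj (cokernel j)) := hQsub x hx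
      have hts : Subsingleton ((St x).obj L ⊗[X.presheaf.stalk x] (St x).obj (cokernel j)) :=
        subsingleton_of_forall_eq 0 fun t => by
          induction t using TensorProduct.induction_on with
          | zero => rfl
          | tmul a b => rw [Subsingleton.elim b 0, TensorProduct.tmul_zero]
          | add a b ha hb => rw [ha, hb, add_zero]
      haveI : Subsingleton ((St x).obj (CohB1.tensorMod L (cokernel j))) := @Equiv.subsingleton _ _ et.toEquiv hts
      exact ⟨LinearEquiv.ofSubsingleton _ _⟩
  have hlen : ∀ (F : X.Modules), (∀ η : X, closure ({η} : Set X) ∈ irreducibleComponents (X : Type u) →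
      Nonempty (F.presheaf.stalk η ≃ₗ[X.presheaf.stalk η] X.presheaf.stalk η)) →
      ∀ Z : irreducibleComponents (X : Type u), ((Module.length (X.presheaf.stalk Z.2.1.genericPoint) (F.presheaf.stalk Z.2.1.genericPoint)).toNat : ℤ) =
        ((Module.length (X.presheaf.stalk Z.2.1.genericPoint) (X.presheaf.stalk Z.2.1.genericPoint)).toNat : ℤ) := fun F hF Z => by
    obtain ⟨e⟩ := hF _ (by rw [(IsIrreducible.isGenericPoint_genericPoint Z.2.1 (isClosed_of_mem_irreducibleComponents _ Z.2)).def]; exact Z.2)
    rw [LinearEquiv.length_eq e]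
  have hM'r : FlatMod.IsFinLocFreeOfRank 1 M' := CurvLib.locFree_of_isInvertible hM'
  have key : ∀ (F : X.Modules), Coh.IsCoh F → (∀ η : X, closure ({η} : Set X) ∈ irreducibleComponents (X : Type u) →
      Nonempty (F.presheaf.stalk η ≃ₗ[X.presheaf.stalk η] X.presheaf.stalk η)) →
      Curv2.euler k X (CohB1.tensorMod F M') - Curv2.euler k X F =
        ∑ᶠ Z : irreducibleComponents (X : Type u),
      (if topologicalKrullDim (Z.1 : Set X) = 1 then
        ((Module.length (X.presheaf.stalk Z.2.1.genericPoint) (X.presheaf.stalk Z.2.1.genericPoint)).toNat : ℤ) *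
          @Curv2.deg k _ (X.irreducibleComponentIdeal Z.1 Z.2).radical.subscheme ⟨(X.irreducibleComponentIdeal Z.1 Z.2).radical.subschemeι ≫ (X ↘ (Spec (CommRingCat.of k)))⟩ ((Scheme.Modules.pullback (X.irreducibleComponentIdeal Z.1 Z.2).radical.subschemeι).obj M') 1
      else 0) := fun F hF hF1 => by
    rw [IntMultLib.euler_tensor_eq_sum k X hdim 1 M' hM'r F hF, Nat.cast_one, one_mul, add_sub_cancel_right]
    refine finsum_congr fun Z => ?_
    rw [hlen F hF1 Z]
  have hLgen : ∀ η : X, closure ({η} : Set X) ∈ irreducibleComponents (X : Type u) →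
      Nonempty (L.presheaf.stalk η ≃ₗ[X.presheaf.stalk η] X.presheaf.stalk η) := fun η hη => by
    refine (stalk_cases k hdim hX L hLc hLt hLr η).resolve_right fun h => ?_
    exact TFNodalLib.not_node_of_isGen k X (isGen_of_mem hη) h.1
  have kL := key L hLc hLgen
  have kO := key (Coh.structureModule X) (DevissLib.isCoh_structureModule X) fun η _ =>
    ⟨(LinearEquiv.ofBijective (LinearMap.toSpanSingleton (X.presheaf.stalk η) ((St η).obj (Coh.structureModule X)) (SurfExtLib.oneAt η))
      ⟨SurfExtLib.smul_oneAt_injective η, fun t => SurfExtLib.exists_smul_oneAt η t⟩).symm⟩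
  rw [CurvLib.euler_congr (k := k) (HilbPolyLib.unitLeft M')] at kO
  simp only [Curv2.deg, Nat.cast_one, one_mul]
  omega

end ModifPtLib

end
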