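import Groth.Agent.NodalLib.QuadCpl
import Groth.Prelude.Def_Curv2

/-!
# Torsion-free modules of rank one over the local ring of a node
-/

set_option autoImplicit false
set_option maxHeartbeats 800000
set_option linter.style.haveILetI false
universe u

open IsLocalRing
open scoped nonZeroDivisors Polynomial Pointwise

noncomputable section

namespace ModifPtLib

variable {A : Type u} [CommRing A] [IsLocalRing A]

/-- What is used about the local ring of a node. -/
structure NodeRing (z w : A) : Prop where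
  zm : z ∈ maximalIdeal A
  zreg : z ∈ A⁰
  span : maximalIdeal A = Ideal.span {z, w}
  sq : maximalIdeal A * maximalIdeal A ≤ Ideal.span {z} * maximalIdeal A
  hw : w ∉ Ideal.span {z}
  bd : ∀ β : FractionRing A, IsIntegral A β → ∃ c : A, algebraMap A _ z * β = algebraMap A _ c

theorem exists_nodeRing [IsNoetherianRing A] [_root_.IsReduced A] [Infinite (ResidueField A)]
    (hq : NodalLib.QNode A) (hδ : Curv2.deltaInv A = 1) : ∃ z w : A, NodeRing z w := by
  classical
  obtain ⟨x, y, a, b, c, hxy, hind, hdisc, hqf, t, htm, htreg⟩ := hq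
  let m := maximalIdeal A
  have hxm : x ∈ m := by rw [show m = _ from hxy]; exact Ideal.subset_span (by simp)
  have hym : y ∈ m := by rw [show m = _ from hxy]; exact Ideal.subset_span (by simp)
  obtain ⟨s, hs⟩ : ∃ s : A, IsUnit (a * s ^ 2 - b * s + c) := by
    let κ := ResidueField A
    let P : κ[X] := Polynomial.C (residue A a) * Polynomial.X ^ 2 - Polynomial.C (residue A b) * Polynomial.X +
      Polynomial.C (residue A c)
    have hP : P ≠ 0 := by
      intro h
      have h2 := congrArg (fun q => Polynomial.coeff q 2) h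
      have h1 := congrArg (fun q => Polynomial.coeff q 1) h
      simp [P, Polynomial.coeff_X, Polynomial.coeff_C] at h2 h1
      refine (IsLocalRing.notMem_maximalIdeal.2 hdisc) ?_
      exact (maximalIdeal A).sub_mem (Ideal.mul_mem_right _ _ (Ideal.mul_mem_left _ _
        ((IsLocalRing.residue_eq_zero_iff _).1 h2))) (Ideal.pow_mem_of_mem _ ((IsLocalRing.residue_eq_zero_iff _).1 h1) 2 two_pos)
    obtain ⟨r, hr⟩ := P.roots.toFinset.exists_notMem
    obtain ⟨s, rfl⟩ := residue_surjective r
    refine ⟨s, IsLocalRing.notMem_maximalIdeal.1 fun h => hr ?_⟩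
    rw [Multiset.mem_toFinset, Polynomial.mem_roots hP]
    rw [← IsLocalRing.residue_eq_zero_iff] at h
    simp only [P, Polynomial.IsRoot.def, Polynomial.eval_add, Polynomial.eval_sub, Polynomial.eval_mul, Polynomial.eval_pow,
      Polynomial.eval_C, Polynomial.eval_X]
    rw [← h]
    simp
  let z := x + s * y
  have hzm : z ∈ m := m.add_mem hxm (m.mul_mem_left _ hym)
  have hspan : m = Ideal.span {z, y} := by
    rw [show m = _ from hxy]
    refine le_antisymm (Ideal.span_le.2 ?_) (Ideal.span_le.2 ?_)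
    · rintro r (rfl | rfl)
      · exact Ideal.mem_span_pair.2 ⟨1, -s, by simp only [z]; ring⟩
      · exact Ideal.mem_span_pair.2 ⟨0, 1, by ring⟩
    · rintro r (rfl | rfl)
      · exact Ideal.mem_span_pair.2 ⟨1, s, by simp only [z]; ring⟩
      · exact Ideal.mem_span_pair.2 ⟨0, 1, by ring⟩
  let J := Ideal.span {z} * m
  have hzJ : ∀ r ∈ m, z * r ∈ J := fun r hr => Ideal.mul_mem_mul (Ideal.mem_span_singleton_self z) hr
  have hy2 : y * y ∈ J ⊔ m * (m * m) := by
    have h1 : (a * s ^ 2 - b * s + c) * (y * y) =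
        NodalLib.qf a b c x y - (z * (a * z + (b - 2 * a * s) * y)) := by
      simp only [NodalLib.qf, z]; ring
    obtain ⟨v, hv⟩ := hs.exists_left_inv
    have h2 : y * y = v * ((a * s ^ 2 - b * s + c) * (y * y)) := by rw [← mul_assoc, hv, one_mul]
    rw [h2, h1]
    refine Ideal.mul_mem_left _ _ (Ideal.sub_mem _ (Ideal.mem_sup_right ?_) (Ideal.mem_sup_left ?_))
    · rwa [← pow_two, ← pow_succ']
    · exact hzJ _ (m.add_mem (m.mul_mem_left _ hzm) (m.mul_mem_left _ hym))
  have hsq' : m * m ≤ J ⊔ m * (m * m) := by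
    rw [Ideal.mul_le]
    intro p hp r hr
    rw [hspan, Ideal.mem_span_pair] at hp hr
    obtain ⟨p1, p2, rfl⟩ := hp
    obtain ⟨r1, r2, rfl⟩ := hr
    have h : (p1 * z + p2 * y) * (r1 * z + r2 * y) = z * (p1 * r1 * z + (p1 * r2 + p2 * r1) * y) + p2 * r2 * (y * y) := by ring
    rw [h]
    exact Ideal.add_mem _ (Ideal.mem_sup_left (hzJ _ (m.add_mem (m.mul_mem_left _ hzm) (m.mul_mem_left _ hym))))
      (Ideal.mul_mem_left _ _ hy2)
  have hsq : m * m ≤ J := by
    refine Submodule.le_of_le_smul_of_le_jacobson_bot (R := A) (M := A) (I := m) (N := J) (N' := m * m)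
      (IsNoetherian.noetherian _) (IsLocalRing.maximalIdeal_le_jacobson _) ?_
    rw [smul_eq_mul]
    exact hsq'
  refine ⟨z, y, hzm, ?_, hspan, hsq, ?_, fun β hβ => ?_⟩
  · obtain ⟨r, hr⟩ := Ideal.mem_span_singleton'.1 (Ideal.mul_le_left (hsq (Ideal.mul_mem_mul htm htm)))
    rw [mem_nonZeroDivisors_iff_right]
    intro u hu
    have h2 : (t * t) ∈ A⁰ := mul_mem htreg htreg
    refine mem_nonZeroDivisors_iff_right.1 h2 u ?_
    rw [← hr, mul_comm r z, ← mul_assoc, hu, zero_mul]
  · intro h
    obtain ⟨c', hc'⟩ := Ideal.mem_span_singleton'.1 h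
    obtain ⟨h1, h2⟩ := hind c' (c' * s - 1) (by
      have h0 : c' * x + (c' * s - 1) * y = 0 := by linear_combination hc'
      rw [h0]; exact zero_mem _)
    exact (maximalIdeal.isMaximal A).ne_top ((Ideal.eq_top_iff_one _).2
      (by simpa using (maximalIdeal A).sub_mem ((maximalIdeal A).mul_mem_right s h1) h2))
  · let K := FractionRing A
    let B := integralClosure A K
    let Q := (↥B ⧸ LinearMap.range (Algebra.linearMap A ↥B))
    haveI : IsSimpleModule A Q := Module.length_eq_one_iff.1 (by simpa [Curv2.deltaInv] using hδ)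
    obtain ⟨I, hI, ⟨e⟩⟩ := (isSimpleModule_iff_quot_maximal (R := A) (M := Q)).1 inferInstance
    obtain rfl := eq_maximalIdeal hI
    have h0 : z • (Submodule.Quotient.mk ⟨β, hβ⟩ : Q) = 0 := by
      apply e.injective
      rw [map_smul, map_zero]
      obtain ⟨r, hr⟩ := Ideal.Quotient.mk_surjective (e (Submodule.Quotient.mk ⟨β, hβ⟩ : Q))
      rw [← hr, Algebra.smul_def, Ideal.Quotient.algebraMap_eq, ← map_mul]
      exact Ideal.Quotient.eq_zero_iff_mem.2 (Ideal.mul_mem_right _ _ hzm)
    rw [← Submodule.Quotient.mk_smul, Submodule.Quotient.mk_eq_zero] at h0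
    obtain ⟨c', hc'⟩ := h0
    exact ⟨c', by
      have := congrArg Subtype.val hc'
      refine Eq.trans ?_ this.symm
      exact (Algebra.smul_def z β).symm⟩

variable {z w : A}

theorem NodeRing.length_quot (hA : NodeRing z w) : Module.length A (A ⧸ Ideal.span {z}) ≤ 2 := by
  let zA : Submodule A A := Ideal.span ({z} : Set A)
  have hwm : w ∈ maximalIdeal A := by rw [hA.span]; exact Ideal.subset_span (by simp)
  let f : A →ₗ[A] A ⧸ zA := LinearMap.toSpanSingleton A _ (Submodule.Quotient.mk w)
  have hker : maximalIdeal A ≤ LinearMap.ker f := fun r hr => by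
    show r • (Submodule.Quotient.mk w : A ⧸ zA) = 0
    rw [← Submodule.Quotient.mk_smul, Submodule.Quotient.mk_eq_zero]
    exact Ideal.mul_le_left (hA.sq (Ideal.mul_mem_mul hr hwm))
  let f' : (A ⧸ maximalIdeal A) →ₗ[A] A ⧸ zA := (maximalIdeal A).liftQ f hker
  let g : (A ⧸ zA) →ₗ[A] A ⧸ maximalIdeal A :=
    Submodule.factor (Ideal.span_le.2 (Set.singleton_subset_iff.2 hA.zm))
  haveI : IsSimpleModule A (A ⧸ maximalIdeal A) :=
    isSimpleModule_iff_isCoatom.2 (maximalIdeal.isMaximal A).out
  haveI : IsSimpleModule A (A ⧸ maximalIdeal A) := inferInstance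
  have h1 : Module.length A (LinearMap.ker g) ≤ 1 := by
    have hle : LinearMap.ker g ≤ LinearMap.range f' := by
      intro q hq
      obtain ⟨r, rfl⟩ := Submodule.Quotient.mk_surjective _ q
      rw [LinearMap.mem_ker] at hq
      have hr : r ∈ maximalIdeal A := (Submodule.Quotient.mk_eq_zero _).1 hq
      rw [hA.span, Ideal.mem_span_pair] at hr
      obtain ⟨p1, p2, rfl⟩ := hr
      refine ⟨Submodule.Quotient.mk p2, ?_⟩
      show p2 • (Submodule.Quotient.mk w : A ⧸ zA) = _
      rw [← Submodule.Quotient.mk_smul, Submodule.Quotient.eq, smul_eq_mul]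
      rw [show p2 * w - (p1 * z + p2 * w) = -(p1 * z) by ring]
      exact zA.neg_mem (zA.smul_mem p1 (Ideal.mem_span_singleton_self z))
    refine (Module.length_le_of_injective (Submodule.inclusion hle) (Submodule.inclusion_injective hle)).trans ?_
    refine (Module.length_le_of_surjective f'.rangeRestrict f'.surjective_rangeRestrict).trans ?_
    rw [Module.length_eq_one A (A ⧸ maximalIdeal A)]
  have h2 := Module.length_eq_add_of_exact (LinearMap.ker g).subtype g (Submodule.subtype_injective _)
    (Submodule.factor_surjective _) (LinearMap.exact_subtype_ker_map g)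
  rw [h2, Module.length_eq_one A (A ⧸ maximalIdeal A), ← one_add_one_eq_two]
  exact add_le_add h1 le_rfl

theorem NodeRing.length_pow_ne_top (hA : NodeRing z w) : ∀ n : ℕ, Module.length A (A ⧸ Ideal.span {z ^ n}) ≠ ⊤
  | 0 => by
    haveI : Subsingleton (A ⧸ Ideal.span {z ^ 0}) := by
      rw [Submodule.Quotient.subsingleton_iff, pow_zero, Ideal.span_singleton_one]
    rw [Module.length_eq_zero]
    exact ENat.zero_ne_top
  | n + 1 => by
    let g : (A ⧸ Ideal.span {z ^ (n + 1)}) →ₗ[A] A ⧸ Ideal.span {z} :=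
      Submodule.factor (Ideal.span_le.2 (Set.singleton_subset_iff.2
        (Ideal.mem_span_singleton.2 (dvd_pow_self z n.succ_ne_zero))))
    let f : (A ⧸ Ideal.span {z ^ n}) →ₗ[A] A ⧸ Ideal.span {z ^ (n + 1)} :=
      (Ideal.span {z ^ n}).mapQ _ (LinearMap.lsmul A A z) fun r hr => by
        obtain ⟨c, rfl⟩ := Ideal.mem_span_singleton'.1 hr
        exact Ideal.mem_span_singleton'.2 ⟨c, by simp [pow_succ]; ring⟩
    have hle : LinearMap.ker g ≤ LinearMap.range f := by
      intro q hq
      obtain ⟨r, rfl⟩ := Submodule.Quotient.mk_surjective _ q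
      obtain ⟨c, rfl⟩ := Ideal.mem_span_singleton'.1 ((Submodule.Quotient.mk_eq_zero _).1 (LinearMap.mem_ker.1 hq))
      refine ⟨Submodule.Quotient.mk c, ?_⟩
      show Submodule.Quotient.mk (z • c) = _
      rw [smul_eq_mul, mul_comm]
    have h2 := Module.length_eq_add_of_exact (LinearMap.ker g).subtype g (Submodule.subtype_injective _)
      (Submodule.factor_surjective _) (LinearMap.exact_subtype_ker_map g)
    rw [h2]
    refine WithTop.add_ne_top.2 ⟨ne_top_of_le_ne_top (length_pow_ne_top hA n) ?_, ne_top_of_le_ne_top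
      (ENat.natCast_ne_top 2) hA.length_quot⟩
    exact (Module.length_le_of_injective (Submodule.inclusion hle) (Submodule.inclusion_injective hle)).trans
      (Module.length_le_of_surjective f.rangeRestrict f.surjective_rangeRestrict)

/-- For an ideal containing a power of `z`, `length (N/zN) = length (A/zA)`. -/
theorem NodeRing.length_ideal (hA : NodeRing z w) (N : Ideal A) {n : ℕ} (hn : z ^ n ∈ N) :
    Module.length A (↥N ⧸ (z • ⊤ : Submodule A N)) = Module.length A (A ⧸ Ideal.span {z}) := by
  let zN : Ideal A := Submodule.map (LinearMap.lsmul A A z) N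
  have hzN : zN ≤ N := by rintro _ ⟨r, hr, rfl⟩; exact N.mul_mem_left _ hr
  have hzA : zN ≤ Ideal.span {z} := by
    rintro _ ⟨r, hr, rfl⟩; exact Ideal.mul_mem_right _ _ (Ideal.mem_span_singleton_self z)
  have hN : Module.length A (A ⧸ N) ≠ ⊤ := ne_top_of_le_ne_top (hA.length_pow_ne_top n)
    (Module.length_le_of_surjective (Submodule.factor (Ideal.span_le.2 (Set.singleton_subset_iff.2 hn)))
      (Submodule.factor_surjective _))
  let f1 : (↥N ⧸ (z • ⊤ : Submodule A N)) →ₗ[A] A ⧸ zN :=
    (z • ⊤ : Submodule A N).mapQ zN N.subtype (by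
      rintro _ ⟨r, -, rfl⟩; exact ⟨r.1, r.2, rfl⟩)
  have hf1 : Function.Injective f1 := by
    rw [← LinearMap.ker_eq_bot, Submodule.eq_bot_iff]
    intro q hq
    obtain ⟨r, rfl⟩ := Submodule.Quotient.mk_surjective _ q
    obtain ⟨p, hp, hpr⟩ := (Submodule.Quotient.mk_eq_zero _).1 (LinearMap.mem_ker.1 hq)
    exact (Submodule.Quotient.mk_eq_zero _).2 ⟨⟨p, hp⟩, trivial, Subtype.ext hpr⟩
  have e1 := Module.length_eq_add_of_exact f1 (Submodule.factor hzN) hf1 (Submodule.factor_surjective _) (by
    intro q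
    obtain ⟨r, rfl⟩ := Submodule.Quotient.mk_surjective _ q
    constructor
    · intro h
      exact ⟨Submodule.Quotient.mk ⟨r, (Submodule.Quotient.mk_eq_zero _).1 h⟩, rfl⟩
    · rintro ⟨p, hp⟩
      obtain ⟨p, rfl⟩ := Submodule.Quotient.mk_surjective _ p
      rw [← hp]
      exact (Submodule.Quotient.mk_eq_zero _).2 p.2)
  let f2 : (A ⧸ N) →ₗ[A] A ⧸ zN := N.mapQ zN (LinearMap.lsmul A A z) fun r hr => ⟨r, hr, rfl⟩
  have hf2 : Function.Injective f2 := by
    rw [← LinearMap.ker_eq_bot, Submodule.eq_bot_iff]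
    intro q hq
    obtain ⟨r, rfl⟩ := Submodule.Quotient.mk_surjective _ q
    obtain ⟨p, hp, hpr⟩ := (Submodule.Quotient.mk_eq_zero _).1 (LinearMap.mem_ker.1 hq)
    have : p = r := (mem_nonZeroDivisors_iff_right.1 hA.zreg _ (by
      rw [sub_mul, sub_eq_zero, mul_comm p, mul_comm r]; exact hpr) |> sub_eq_zero.1)
    exact (Submodule.Quotient.mk_eq_zero _).2 (this ▸ hp)
  have e2 := Module.length_eq_add_of_exact f2 (Submodule.factor hzA) hf2 (Submodule.factor_surjective _) (by
    intro q
    obtain ⟨r, rfl⟩ := Submodule.Quotient.mk_surjective _ q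
    constructor
    · intro h
      obtain ⟨c, rfl⟩ := Ideal.mem_span_singleton'.1 ((Submodule.Quotient.mk_eq_zero _).1 h)
      refine ⟨Submodule.Quotient.mk c, ?_⟩
      show Submodule.Quotient.mk (z • c) = _
      rw [smul_eq_mul, mul_comm]
    · rintro ⟨p, hp⟩
      obtain ⟨p, rfl⟩ := Submodule.Quotient.mk_surjective _ p
      rw [← hp]
      exact (Submodule.Quotient.mk_eq_zero _).2 (Ideal.mul_mem_right _ _ (Ideal.mem_span_singleton_self z)))
  rw [e1, add_comm (Module.length A (A ⧸ N)) (Module.length A (A ⧸ Ideal.span {z}))] at e2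
  exact (WithTop.add_right_inj hN).1 e2 

/-- **A torsion-free module of rank one over the local ring of a node is free or the maximal ideal.** -/
theorem NodeRing.free_or_maximalIdeal [IsNoetherianRing A] (hA : NodeRing z w) {M : Type u} [AddCommGroup M]
    [Module A M] [Module.Finite A M] (φ : M →ₗ[A] A) (hφ : Function.Injective φ) {n : ℕ}
    (hn : z ^ n ∈ LinearMap.range φ) :
    Nonempty (M ≃ₗ[A] A) ∨ Nonempty (M ≃ₗ[A] maximalIdeal A) := by
  classical
  have hfaith : ∀ r : A, (∀ x : M, r • x = 0) → r = 0 := fun r hr => by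
    obtain ⟨x, hx⟩ := hn
    refine mem_nonZeroDivisors_iff_right.1 (pow_mem hA.zreg n) r ?_
    rw [← hx, ← smul_eq_mul, ← map_smul, hr, map_zero]
  let m := maximalIdeal A
  by_cases hcyc : ∃ v : M, Submodule.span A {v} = ⊤
  · obtain ⟨v, hv⟩ := hcyc
    refine Or.inl ⟨(LinearEquiv.ofBijective (LinearMap.toSpanSingleton A M v) ⟨?_, ?_⟩).symm⟩
    · rw [← LinearMap.ker_eq_bot, Submodule.eq_bot_iff]
      intro r hr
      refine hfaith r fun x => ?_
      obtain ⟨c, rfl⟩ := Submodule.mem_span_singleton.1 (show x ∈ Submodule.span A {v} from hv ▸ trivial)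
      rw [smul_comm, show r • v = 0 from hr, smul_zero]
    · rw [← LinearMap.range_eq_top, ← LinearMap.span_singleton_eq_range]; exact hv
  push Not at hcyc
  have hnak : ∀ N : Submodule A M, N ⊔ m • ⊤ = ⊤ → N = ⊤ := fun N h => top_le_iff.1
    (Submodule.le_of_le_smul_of_le_jacobson_bot Module.Finite.fg_top (IsLocalRing.maximalIdeal_le_jacobson _) h.ge)
  haveI : IsSimpleModule A (A ⧸ m) := isSimpleModule_iff_isCoatom.2 (maximalIdeal.isMaximal A).out
  -- the quotient `M / zM` has length at most two
  have hlen : Module.length A (M ⧸ (z • ⊤ : Submodule A M)) ≤ 2 := by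
    let e := LinearEquiv.ofInjective φ hφ
    have he : (z • ⊤ : Submodule A M).map e.toLinearMap = z • ⊤ := by
      rw [Submodule.map_pointwise_smul, Submodule.map_top, LinearEquiv.range]
    rw [(Submodule.Quotient.equiv _ _ e he).length_eq, hA.length_ideal _ hn]
    exact hA.length_quot
  let g : (M ⧸ (z • ⊤ : Submodule A M)) →ₗ[A] M ⧸ (m • ⊤ : Submodule A M) :=
    Submodule.factor (by
      rintro _ ⟨x, -, rfl⟩
      exact Submodule.smul_mem_smul hA.zm trivial)
  have hlen2 : (2 : ℕ∞) ≤ Module.length A (M ⧸ (m • ⊤ : Submodule A M)) := by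
    by_contra hlt
    have h1 : Module.length A (M ⧸ (m • ⊤ : Submodule A M)) ≤ 1 := Order.le_of_lt_add_one (by
      rw [one_add_one_eq_two]; exact not_le.1 hlt)
    by_cases h0 : (m • ⊤ : Submodule A M) = ⊤
    · exact hcyc 0 (hnak _ (by rw [h0, sup_top_eq]))
    haveI : Nontrivial (M ⧸ (m • ⊤ : Submodule A M)) := Submodule.Quotient.nontrivial_iff.2 h0
    haveI : IsSimpleModule A (M ⧸ (m • ⊤ : Submodule A M)) :=
      Module.length_eq_one_iff.1 (le_antisymm h1 (Order.one_le_iff_pos.2 Module.length_pos))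
    obtain ⟨q, hq⟩ := exists_ne (0 : M ⧸ (m • ⊤ : Submodule A M))
    obtain ⟨v, rfl⟩ := Submodule.Quotient.mk_surjective _ q
    refine hcyc v (hnak _ ?_)
    have h2 := IsSimpleModule.span_singleton_eq_top A hq
    rw [eq_top_iff]
    intro x _
    obtain ⟨c, hc⟩ := Submodule.mem_span_singleton.1
      (show (Submodule.Quotient.mk x : M ⧸ (m • ⊤ : Submodule A M)) ∈ Submodule.span A {(Submodule.Quotient.mk v : M ⧸ (m • ⊤ : Submodule A M))} from by rw [h2]; trivial)
    rw [← Submodule.Quotient.mk_smul, Submodule.Quotient.eq] at hc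
    have := Submodule.sub_mem (Submodule.span A {v} ⊔ m • ⊤) (Submodule.mem_sup_left (Submodule.mem_span_singleton.2 ⟨c, rfl⟩ :
      c • v ∈ Submodule.span A {v})) (Submodule.mem_sup_right hc : c • v - x ∈ _)
    simpa using this
  have hmz : (m • ⊤ : Submodule A M) ≤ z • ⊤ := by
    have h2 := Module.length_eq_add_of_exact (LinearMap.ker g).subtype g (Submodule.subtype_injective _)
      (Submodule.factor_surjective _) (LinearMap.exact_subtype_ker_map g)
    have h3 : Module.length A (LinearMap.ker g) = 0 := by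
      have hfin : Module.length A (M ⧸ (m • ⊤ : Submodule A M)) ≠ ⊤ := by
        refine ne_top_of_le_ne_top (ENat.natCast_ne_top 2) ((le_add_self).trans (h2.ge.trans hlen))
      have h4 : Module.length A (LinearMap.ker g) + Module.length A (M ⧸ (m • ⊤ : Submodule A M)) ≤
          0 + Module.length A (M ⧸ (m • ⊤ : Submodule A M)) := by
        rw [zero_add]; exact h2.ge.trans (hlen.trans hlen2)
      exact le_antisymm ((WithTop.add_le_add_iff_right hfin).1 h4) bot_le
    rw [Module.length_eq_zero_iff, Submodule.subsingleton_iff_eq_bot] at h3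
    intro x hx
    have : (Submodule.Quotient.mk x : M ⧸ (z • ⊤ : Submodule A M)) ∈ LinearMap.ker g :=
      (Submodule.Quotient.mk_eq_zero _).2 hx
    rw [h3, Submodule.mem_bot, Submodule.Quotient.mk_eq_zero] at this
    exact this
  have hinj : Function.Injective fun x : M => z • x := fun x y hxy => hφ (sub_eq_zero.1
    (mem_nonZeroDivisors_iff_right.1 hA.zreg _ (by
      rw [sub_mul, sub_eq_zero, mul_comm, mul_comm _ z, ← smul_eq_mul, ← smul_eq_mul, ← map_smul, ← map_smul]
      exact congrArg φ hxy)))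
  have hex : ∀ s ∈ m, ∀ x : M, ∃ y : M, z • y = s • x := fun s hs x => by
    obtain ⟨y, -, hy⟩ := hmz (Submodule.smul_mem_smul hs (show x ∈ (⊤ : Submodule A M) from trivial))
    exact ⟨y, hy⟩
  choose d hd using hex
  have hwm : w ∈ m := by rw [show m = _ from hA.span]; exact Ideal.subset_span (by simp)
  let T : M →ₗ[A] M :=
    { toFun := d w hwm
      map_add' := fun x y => hinj (by simp only [hd, smul_add])
      map_smul' := fun c x => hinj (by simp only [hd, RingHom.id_apply]; rw [smul_comm z, hd, smul_comm]) }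
  by_cases hgen : ∃ v : M, Submodule.span A {v, T v} = ⊤
  · obtain ⟨v, hv⟩ := hgen
    let ψ : maximalIdeal A →ₗ[A] M :=
      { toFun := fun s => d s.1 s.2 v
        map_add' := fun s t => hinj (by simp only [hd, smul_add, Submodule.coe_add, add_smul])
        map_smul' := fun c s => hinj (by
          simp only [hd, RingHom.id_apply, Submodule.coe_smul, smul_eq_mul]
          rw [smul_comm z, hd, mul_smul]) }
    refine Or.inr ⟨(LinearEquiv.ofBijective ψ ⟨?_, ?_⟩).symm⟩
    · rw [← LinearMap.ker_eq_bot, Submodule.eq_bot_iff]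
      intro s hs
      refine Subtype.ext (hfaith _ fun x => ?_)
      have hsv : s.1 • v = 0 := by rw [← hd s.1 s.2 v, show d s.1 s.2 v = 0 from hs, smul_zero]
      obtain ⟨c, e', rfl⟩ := Submodule.mem_span_pair.1 (show x ∈ Submodule.span A {v, T v} from hv ▸ trivial)
      rw [smul_add, smul_comm, hsv, smul_zero, zero_add, smul_comm, ← map_smul, hsv, map_zero, smul_zero]
    · rw [← LinearMap.range_eq_top, eq_top_iff, ← hv, Submodule.span_le]
      rintro x (rfl | rfl)
      · exact ⟨⟨z, hA.zm⟩, hinj (hd _ _ _)⟩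
      · exact ⟨⟨w, hwm⟩, rfl⟩
  push Not at hgen
  exfalso
  let Mb := M ⧸ (m • ⊤ : Submodule A M)
  -- `T` is a scalar modulo `m`
  have hline : ∀ v : M, Submodule.Quotient.mk v ≠ (0 : Mb) → ∃ c : A, T v - c • v ∈ (m • ⊤ : Submodule A M) := by
    intro v hv
    by_contra hc
    push Not at hc
    refine hgen v (hnak _ ?_)
    let L := Submodule.span A {(Submodule.Quotient.mk v : Mb)}
    have hL : Module.length A L = 1 := by
      let h : (A ⧸ m) →ₗ[A] Mb := m.liftQ (LinearMap.toSpanSingleton A Mb (Submodule.Quotient.mk v)) fun r hr => by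
        show r • (Submodule.Quotient.mk v : Mb) = 0
        rw [← Submodule.Quotient.mk_smul, Submodule.Quotient.mk_eq_zero]
        exact Submodule.smul_mem_smul hr trivial
      have hi : Function.Injective h := (LinearMap.injective_or_eq_zero h).resolve_right fun h0 => hv (by
        have := LinearMap.congr_fun h0 (Submodule.Quotient.mk 1)
        have h' : (1 : A) • (Submodule.Quotient.mk v : Mb) = 0 := this
        rwa [one_smul] at h')
      rw [show L = LinearMap.range h by rw [Submodule.range_liftQ, ← LinearMap.span_singleton_eq_range],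
        ← (LinearEquiv.ofInjective h hi).length_eq, Module.length_eq_one]
    let L2 := Submodule.span A {(Submodule.Quotient.mk v : Mb), Submodule.Quotient.mk (T v)}
    have hlt : L < L2 := by
      refine lt_of_le_of_ne (Submodule.span_mono (by simp)) fun he => ?_
      have : (Submodule.Quotient.mk (T v) : Mb) ∈ L := he ▸ Submodule.subset_span (by simp)
      obtain ⟨c, hc'⟩ := Submodule.mem_span_singleton.1 this
      rw [← Submodule.Quotient.mk_smul, Submodule.Quotient.eq] at hc'
      exact hc c (by simpa using (m • ⊤ : Submodule A M).neg_mem hc')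
    have hMb : Module.length A Mb ≤ 2 :=
      (Module.length_le_of_surjective g (Submodule.factor_surjective _)).trans hlen
    haveI : IsFiniteLength A Mb := Module.length_ne_top_iff.1 (ne_top_of_le_ne_top (ENat.natCast_ne_top 2) hMb)
    obtain ⟨hn', ha'⟩ := isFiniteLength_iff_isNoetherian_isArtinian.1 ‹IsFiniteLength A Mb›
    haveI := hn'; haveI := ha'
    have hL2 : L2 = ⊤ := by
      by_contra hne
      have h4 := Submodule.length_lt hne
      have h5 : Module.length A L < Module.length A L2 := by
        rw [Module.length_submodule, Module.length_submodule]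
        exact Order.height_strictMono hlt (by
          rw [← Module.length_submodule, hL]; exact ENat.one_lt_top)
      rw [hL] at h5
      exact absurd ((Order.add_one_le_of_lt h4).trans hMb) (not_le.2 (by
        rw [← one_add_one_eq_two]
        exact WithTop.add_lt_add_right ENat.one_ne_top h5))
    rw [eq_top_iff]
    intro x _
    obtain ⟨c, e', hx⟩ := Submodule.mem_span_pair.1 (show (Submodule.Quotient.mk x : Mb) ∈ L2 from hL2 ▸ trivial)
    rw [← Submodule.Quotient.mk_smul, ← Submodule.Quotient.mk_smul, ← Submodule.Quotient.mk_add, Submodule.Quotient.eq] at hx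
    have h6 : c • v + e' • T v ∈ Submodule.span A {v, T v} :=
      Submodule.mem_span_pair.2 ⟨c, e', rfl⟩
    simpa using Submodule.sub_mem _ (Submodule.mem_sup_left (T := m • ⊤) h6) (Submodule.mem_sup_right hx)
  obtain ⟨c, hc⟩ : ∃ c : A, ∀ x : M, T x - c • x ∈ (m • ⊤ : Submodule A M) := by
    haveI : Nontrivial Mb := by
      rw [← Module.length_pos_iff (R := A)]
      exact lt_of_lt_of_le two_pos hlen2
    obtain ⟨q, hq⟩ := exists_ne (0 : Mb)
    obtain ⟨v, rfl⟩ := Submodule.Quotient.mk_surjective _ q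
    obtain ⟨c, hc⟩ := hline v hq
    refine ⟨c, fun x => ?_⟩
    by_cases hx : Submodule.Quotient.mk x = (0 : Mb)
    · have hx' := (Submodule.Quotient.mk_eq_zero _).1 hx
      refine Submodule.sub_mem _ ?_ (Submodule.smul_mem _ _ hx')
      have h7 : T x ∈ (m • ⊤ : Submodule A M).map T := ⟨x, hx', rfl⟩
      rw [Submodule.map_smul''] at h7
      exact Submodule.smul_mono le_rfl le_top h7
    obtain ⟨cx, hcx⟩ := hline x hx
    by_cases hcm : cx - c ∈ m
    · have : T x - c • x = (T x - cx • x) + (cx - c) • x := by rw [sub_smul]; abel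
      rw [this]
      exact Submodule.add_mem _ hcx (Submodule.smul_mem_smul hcm trivial)
    exfalso
    have hTm : ∀ y ∈ (m • ⊤ : Submodule A M), T y ∈ (m • ⊤ : Submodule A M) := fun y hy => by
      have h7 : T y ∈ (m • ⊤ : Submodule A M).map T := ⟨y, hy, rfl⟩
      rw [Submodule.map_smul''] at h7
      exact Submodule.smul_mono le_rfl le_top h7
    -- eigenvectors with different eigenvalues are not proportional modulo `m`
    have heig : ∀ (p q r c₁ c₂ : A) (y y' : M), IsUnit p → IsUnit q → q = c₁ - c₂ →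
        T y - c₁ • y ∈ (m • ⊤ : Submodule A M) → T y' - c₂ • y' ∈ (m • ⊤ : Submodule A M) →
        p • y - r • y' ∈ (m • ⊤ : Submodule A M) → y ∈ (m • ⊤ : Submodule A M) := by
      intro p q r c₁ c₂ y y' hp hq hqe h1 h2 h3
      have h4 : q • p • y = T (p • y - r • y') - p • (T y - c₁ • y) + r • (T y' - c₂ • y') -
          c₂ • (p • y - r • y') := by
        rw [hqe, map_sub, map_smul, map_smul, smul_sub, smul_sub, smul_sub, sub_smul, smul_comm c₁ p, smul_comm c₂ p,
          smul_comm c₂ r]
        abel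
      have h5 : q • p • y ∈ (m • ⊤ : Submodule A M) := by
        rw [h4]
        exact Submodule.sub_mem _ (Submodule.add_mem _ (Submodule.sub_mem _ (hTm _ h3) (Submodule.smul_mem _ _ h1))
          (Submodule.smul_mem _ _ h2)) (Submodule.smul_mem _ _ h3)
      exact (Submodule.smul_mem_iff_of_isUnit _ hp).1 ((Submodule.smul_mem_iff_of_isUnit _ hq).1 h5)
    have hu := IsLocalRing.notMem_maximalIdeal.1 hcm
    have hv' : v ∉ (m • ⊤ : Submodule A M) := fun h => hq ((Submodule.Quotient.mk_eq_zero _).2 h)
    have hx' : x ∉ (m • ⊤ : Submodule A M) := fun h => hx ((Submodule.Quotient.mk_eq_zero _).2 h)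
    by_cases hvx : Submodule.Quotient.mk (v + x) = (0 : Mb)
    · refine hx' (heig 1 _ (-1) cx c x v isUnit_one hu rfl hcx hc ?_)
      simpa [add_comm] using (Submodule.Quotient.mk_eq_zero _).1 hvx
    obtain ⟨e, he⟩ := hline _ hvx
    have hdep : (e - cx) • x - (c - e) • v ∈ (m • ⊤ : Submodule A M) := by
      have : (e - cx) • x - (c - e) • v = (T v - c • v) + (T x - cx • x) - (T (v + x) - e • (v + x)) := by
        simp only [map_add, smul_add, sub_smul]
        abel
      rw [this]
      exact Submodule.sub_mem _ (Submodule.add_mem _ hc hcx) he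
    by_cases he1 : e - cx ∈ m
    · have he2 : IsUnit (c - e) := IsLocalRing.notMem_maximalIdeal.1 fun he2 => hcm (by
        have := m.add_mem he1 he2
        rw [show e - cx + (c - e) = -(cx - c) by ring] at this
        exact neg_mem_iff.1 this)
      refine hv' (heig (c - e) (c - cx) (e - cx) c cx v x he2 (by rw [← neg_sub]; exact hu.neg) rfl hc hcx ?_)
      rw [← neg_sub]
      exact Submodule.neg_mem _ hdep
    · exact hx' (heig _ _ _ cx c x v (IsLocalRing.notMem_maximalIdeal.1 he1) hu rfl hcx hc hdep)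
  let a := w - c * z
  have hax : ∀ x : M, ∃ y : M, a • x = (z * z) • y := fun x => by
    obtain ⟨y, -, hy⟩ := hmz (hc x)
    refine ⟨y, ?_⟩
    rw [sub_smul, mul_smul, mul_smul, show z • y = T x - c • x from hy, smul_sub, ← hd w hwm x, smul_comm c]
    rfl
  choose T' hT' using hax
  have hinj2 : Function.Injective fun x : M => (z * z) • x := fun x y hxy => by
    simp only [mul_smul] at hxy
    exact hinj (hinj hxy)
  let T'' : Module.End A M :=
    { toFun := T'
      map_add' := fun x y => hinj2 (by simp only [smul_add, ← hT'])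
      map_smul' := fun r x => hinj2 (by
        simp only [RingHom.id_apply]
        rw [← hT', smul_comm (z * z), ← hT', smul_comm]) }
  obtain ⟨P, hPm, hP⟩ := LinearMap.exists_monic_and_aeval_eq_zero A T''
  have h8 : algebraMap A (Module.End A M) (z * z) * T'' = algebraMap A (Module.End A M) a :=
    LinearMap.ext fun x => (hT' x).symm
  have h9 := Polynomial.scaleRoots_aeval_eq_zero (r := z * z) hP
  rw [h8, Polynomial.aeval_algebraMap_apply] at h9
  have h10 : Polynomial.aeval a (P.scaleRoots (z * z)) = 0 := hfaith _ fun x => LinearMap.congr_fun h9 x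
  let K := FractionRing A
  obtain ⟨u, hu⟩ := IsLocalization.map_units K (⟨z * z, mul_mem hA.zreg hA.zreg⟩ : A⁰)
  replace hu : (u : K) = algebraMap A K (z * z) := hu
  have hβ : IsIntegral A (algebraMap A K a * ↑u⁻¹) := by
    refine ⟨P, hPm, ?_⟩
    have h11 := congrArg (algebraMap A K) h10
    rw [map_zero, ← Polynomial.aeval_algebraMap_apply] at h11
    rw [show algebraMap A K a = algebraMap A K (z * z) * (algebraMap A K a * ↑u⁻¹) by
      rw [← hu, mul_left_comm, Units.mul_inv, mul_one], Polynomial.aeval_def, Polynomial.scaleRoots_eval₂_mul,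
      ← hu] at h11
    exact ((u.isUnit.pow _).mul_right_eq_zero).1 h11
  obtain ⟨c', hc'⟩ := hA.bd _ hβ
  refine hA.hw (Ideal.mem_span_singleton'.2 ⟨c' + c, IsFractionRing.injective A K ?_⟩)
  have h12 : algebraMap A K a = algebraMap A K z * algebraMap A K c' := by
    rw [← hc', ← mul_assoc, ← map_mul, ← hu, mul_left_comm, Units.mul_inv, mul_one]
  simp only [a, map_sub, map_mul] at h12
  rw [map_mul, map_add]
  linear_combination -h12

end ModifPtLib

end
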