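import Groth.Agent.DiagTorLib.Serre
import Groth.Agent.SubtrBlowLib.GenericFlat
import Groth.Agent.ModifPtLib.NodeRankOne
import Groth.Agent.FinPicLib.Topo

/-!
# Torsion-free stalks of rank one embed in the local ring
-/

set_option autoImplicit false
set_option backward.isDefEq.respectTransparency false
set_option backward.isDefEq.respectTransparency.types false
set_option linter.style.haveILetI false

universe u

open CategoryTheory CategoryTheory.Limits AlgebraicGeometry TopologicalSpace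
open EquidimLib (stalkPt)
open CycDivLib (primeOf)
open scoped nonZeroDivisors

noncomputable section

namespace ModifPtLib

variable {X : Scheme.{u}}

theorem mem_nonZeroDivisors_of_notMem_minimalPrimes' {R : Type*} [CommRing R] [_root_.IsReduced R] {g : R}
    (hg : ∀ q ∈ minimalPrimes R, g ∉ q) : g ∈ R⁰ := by
  rw [mem_nonZeroDivisors_iff_right]
  intro a ha
  have h : a ∈ sInf (minimalPrimes R) := Submodule.mem_sInf.2 fun q hq =>
    (hq.1.1.mem_or_mem (show a * g ∈ q by rw [ha]; exact zero_mem _)).resolve_right (hg q hq)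
  have h' : sInf (minimalPrimes R) = (⊥ : Ideal R).radical := Ideal.sInf_minimalPrimes
  rw [h'] at h
  exact (IsReduced.eq_zero a (h.imp fun n hn => (Submodule.mem_bot R).1 hn))

theorem eq_zero_of_forall_minimalPrimes {R : Type*} [CommRing R] [_root_.IsReduced R] {a : R}
    (ha : ∀ q ∈ minimalPrimes R, a ∈ q) : a = 0 := by
  have h : a ∈ sInf (minimalPrimes R) := Submodule.mem_sInf.2 ha
  have h' : sInf (minimalPrimes R) = (⊥ : Ideal R).radical := Ideal.sInf_minimalPrimes
  rw [h'] at h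
  exact (IsReduced.eq_zero a (h.imp fun n hn => (Submodule.mem_bot R).1 hn))

theorem exists_localGen (M : X.Modules) [Coh.IsQCoh M] {x ξ : X} (h : ξ ⤳ x) (hK : IsField (X.presheaf.stalk ξ))
    (hrk : Module.finrank (X.presheaf.stalk ξ) (M.presheaf.stalk ξ) = 1) :
    ∃ x0 : M.presheaf.stalk x, (∀ t ∈ (primeOf h).asIdeal.primeCompl, t • x0 ≠ 0) ∧
      ∀ y : M.presheaf.stalk x, ∃ t ∈ (primeOf h).asIdeal.primeCompl, ∃ c : X.presheaf.stalk x, t • y = c • x0 := by
  letI := (X.presheaf.stalkSpecializes h).hom.toAlgebra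
  haveI := CycDivLib.isLocalization_stalkSpecializes h
  letI : Module (X.presheaf.stalk x) (M.presheaf.stalk ξ) :=
    Module.compHom _ (X.presheaf.stalkSpecializes h).hom
  haveI : IsScalarTower (X.presheaf.stalk x) (X.presheaf.stalk ξ) (M.presheaf.stalk ξ) :=
    IsScalarTower.of_algebraMap_smul fun _ _ => rfl
  let sp : M.presheaf.stalk x →ₗ[X.presheaf.stalk x] M.presheaf.stalk ξ :=
    { toFun := fun v => M.presheaf.stalkSpecializes h v
      map_add' := fun a b => map_add (M.presheaf.stalkSpecializes h).hom a b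
      map_smul' := fun a v => CycC1Lib.stalkSpecializes_smul M h a v }
  obtain ⟨U, hU, hxU, -⟩ := exists_isAffineOpen_mem_and_subset (X := X) (x := x) (U := ⊤) trivial
  have hξU : ξ ∈ U := h.mem_open U.isOpen hxU
  have hgξ : ∀ r : Γ(X, U), (X.presheaf.stalkSpecializes h).hom ((X.presheaf.germ U x hxU).hom r) =
      (X.presheaf.germ U ξ hξU).hom r := fun r => TopCat.Presheaf.germ_stalkSpecializes_apply X.presheaf hxU h r
  have hmem : ∀ r : Γ(X, U), (X.presheaf.germ U x hxU).hom r ∈ (primeOf h).asIdeal.primeCompl ↔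
      r ∈ (hU.primeIdealOf ⟨ξ, hξU⟩).asIdeal.primeCompl := fun r => by
    show ¬ ((X.presheaf.stalkSpecializes h).hom ((X.presheaf.germ U x hxU).hom r) ∈ IsLocalRing.maximalIdeal _) ↔ _
    rw [hgξ, IsLocalRing.mem_maximalIdeal]
    exact not_congr (SDivLib.mem_prm_iff (⟨U, hU⟩ : X.affineOpens) hξU r).symm
  haveI : IsLocalizedModule (primeOf h).asIdeal.primeCompl sp := by
    refine ⟨fun s => ?_, fun σ => ?_, fun {a b} hab => ?_⟩
    · rw [Module.End.isUnit_iff]
      have hu := IsLocalization.map_units (X.presheaf.stalk ξ) s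
      obtain ⟨v, hv⟩ := hu
      refine ⟨fun a b hab => ?_, fun a => ⟨(↑v⁻¹ : X.presheaf.stalk ξ) • a, ?_⟩⟩
      · replace hab : algebraMap _ (X.presheaf.stalk ξ) (s : X.presheaf.stalk x) • a = algebraMap _ (X.presheaf.stalk ξ) (s : X.presheaf.stalk x) • b := hab
        rw [← hv] at hab
        exact (v.isUnit.smul_left_cancel).mp hab
      · show algebraMap _ (X.presheaf.stalk ξ) (s : X.presheaf.stalk x) • (↑v⁻¹ : X.presheaf.stalk ξ) • a = a
        rw [← hv, ← mul_smul, Units.mul_inv, one_smul]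
    · letI := Module.compHom (M.presheaf.stalk ξ) (X.presheaf.germ U ξ hξU).hom
      haveI := FlatLib.isLocalizedModule_germLin M hU hξU
      obtain ⟨⟨m, s⟩, hs⟩ := IsLocalizedModule.surj (hU.primeIdealOf ⟨ξ, hξU⟩).asIdeal.primeCompl (FlatLib.germLin M hξU) σ
      refine ⟨(M.presheaf.germ U x hxU m, ⟨(X.presheaf.germ U x hxU).hom s.1, (hmem _).2 s.2⟩), ?_⟩
      show (X.presheaf.stalkSpecializes h).hom ((X.presheaf.germ U x hxU).hom s.1) • σ =
        M.presheaf.stalkSpecializes h (M.presheaf.germ U x hxU m)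
      rw [hgξ, TopCat.Presheaf.germ_stalkSpecializes_apply]
      exact hs
    · letI := Module.compHom (M.presheaf.stalk x) (X.presheaf.germ U x hxU).hom
      haveI := FlatLib.isLocalizedModule_germLin M hU hxU
      obtain ⟨⟨m, s⟩, hs⟩ := IsLocalizedModule.surj (hU.primeIdealOf ⟨x, hxU⟩).asIdeal.primeCompl (FlatLib.germLin M hxU) (a - b)
      replace hs : (X.presheaf.germ U x hxU).hom s.1 • (a - b) = M.presheaf.germ U x hxU m := hs
      have h0 : M.presheaf.germ U ξ hξU m = 0 := by
        rw [← TopCat.Presheaf.germ_stalkSpecializes_apply M.presheaf hxU h, ← hs]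
        show sp ((X.presheaf.germ U x hxU).hom s.1 • (a - b)) = 0
        rw [map_smul, map_sub, hab, sub_self, smul_zero]
      letI := Module.compHom (M.presheaf.stalk ξ) (X.presheaf.germ U ξ hξU).hom
      haveI := FlatLib.isLocalizedModule_germLin M hU hξU
      obtain ⟨t, ht⟩ := (IsLocalizedModule.eq_zero_iff (hU.primeIdealOf ⟨ξ, hξU⟩).asIdeal.primeCompl (FlatLib.germLin M hξU)).1 h0
      letI := X.presheaf.algebra_section_stalk (⟨x, hxU⟩ : U)
      haveI : IsLocalization.AtPrime (X.presheaf.stalk x) (hU.primeIdealOf ⟨x, hxU⟩).asIdeal :=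
        hU.isLocalization_stalk ⟨x, hxU⟩
      obtain ⟨v, hv⟩ := IsLocalization.map_units (X.presheaf.stalk x) s
      refine ⟨⟨(X.presheaf.germ U x hxU).hom t.1, (hmem _).2 t.2⟩, ?_⟩
      show (X.presheaf.germ U x hxU).hom t.1 • a = (X.presheaf.germ U x hxU).hom t.1 • b
      rw [← sub_eq_zero, ← smul_sub]
      have h1 : (X.presheaf.germ U x hxU).hom t.1 • (X.presheaf.germ U x hxU).hom s.1 • (a - b) = 0 := by
        rw [hs, ← FlatLib.germ_smul_mod M hxU]
        show M.presheaf.germ U x hxU ((t : Γ(X, U)) • m) = 0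
        have ht' : (t : Γ(X, U)) • m = 0 := ht
        rw [ht', map_zero]
      rw [smul_comm] at h1
      have hu : IsUnit ((X.presheaf.germ U x hxU).hom s.1) := ⟨v, hv⟩
      exact hu.smul_eq_zero.1 h1
  let S := (primeOf h).asIdeal.primeCompl
  letI := hK.toField
  obtain ⟨σ, hσ, hspan⟩ := finrank_eq_one_iff'.1 hrk
  obtain ⟨⟨x0, s⟩, hs⟩ := IsLocalizedModule.surj S sp σ
  obtain ⟨e, he⟩ := IsLocalization.map_units (X.presheaf.stalk ξ) s
  have hs' : (e : X.presheaf.stalk ξ) • σ = sp x0 := by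
    rw [he, algebraMap_smul]; exact hs
  have hne : sp x0 ≠ 0 := by rw [← hs']; exact fun h0 => hσ (e.isUnit.smul_eq_zero.1 h0)
  refine ⟨x0, fun t ht h0 => hne ?_, fun y => ?_⟩
  · obtain ⟨e', he'⟩ := IsLocalization.map_units (X.presheaf.stalk ξ) (⟨t, ht⟩ : S)
    refine e'.isUnit.smul_eq_zero.1 ?_
    rw [he', algebraMap_smul, ← map_smul, h0, map_zero]
  · obtain ⟨c, hc⟩ := hspan (sp y)
    obtain ⟨⟨a, t⟩, hat⟩ := IsLocalization.surj S (c * (↑e⁻¹ : X.presheaf.stalk ξ))
    have hy : sp ((t : X.presheaf.stalk x) • y - a • x0) = 0 := by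
      rw [map_sub, map_smul, map_smul, ← algebraMap_smul (X.presheaf.stalk ξ) (t : X.presheaf.stalk x),
        ← algebraMap_smul (X.presheaf.stalk ξ) a, ← hat, ← hs', ← hc, ← mul_smul, ← mul_smul, sub_eq_zero]
      congr 1
      calc algebraMap (X.presheaf.stalk x) (X.presheaf.stalk ξ) (t : X.presheaf.stalk x) * c
          = c * algebraMap (X.presheaf.stalk x) (X.presheaf.stalk ξ) (t : X.presheaf.stalk x) * ((↑e⁻¹ : X.presheaf.stalk ξ) * ↑e) := by
            rw [Units.inv_mul, mul_one, mul_comm]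
        _ = _ := by ring
    obtain ⟨t', ht'⟩ := (IsLocalizedModule.eq_zero_iff S sp).1 hy
    refine ⟨t' * t, mul_mem t'.2 t.2, t' * a, ?_⟩
    rw [mul_smul, mul_smul]
    exact sub_eq_zero.1 (by rw [← smul_sub]; exact ht')

open scoped Function in
/-- A finite torsion-free module of rank one at every minimal prime of a reduced ring embeds in the ring,
with image containing a regular element. -/
theorem exists_embedding {A M : Type u} [CommRing A] [IsNoetherianRing A] [_root_.IsReduced A] [AddCommGroup M]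
    [Module A M] [Module.Finite A M] (htf : ∀ s ∈ A⁰, ∀ m : M, s • m = 0 → m = 0)
    (h : ∀ q ∈ minimalPrimes A, ∃ x0 : M, (∀ t ∉ q, t • x0 ≠ 0) ∧ ∀ y : M, ∃ t ∉ q, ∃ c : A, t • y = c • x0) :
    ∃ φ : M →ₗ[A] A, Function.Injective φ ∧ ∃ s ∈ A⁰, s ∈ LinearMap.range φ := by
  classical
  have hfin : (minimalPrimes A).Finite := minimalPrimes.finite_of_isNoetherianRing A
  let P := hfin.toFinset
  have hP : ∀ {q}, q ∈ P → q ∈ minimalPrimes A := fun hq => hfin.mem_toFinset.1 hq
  choose x0 hx0 hgen using fun q : P => h q.1 (hP q.2)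
  have hprime : ∀ q : P, q.1.IsPrime := fun q => (hP q.2).1.1
  have he : ∀ q : P, ∃ e ∉ q.1, ∀ q' : P, q' ≠ q → e ∈ q'.1 := fun q => by
    have : ∀ q' : P, q' ≠ q → ∃ e ∈ q'.1, e ∉ q.1 := fun q' hne => SetLike.not_le_iff_exists.1 fun hle =>
      hne (Subtype.ext (le_antisymm hle ((hP q.2).2 ⟨hprime q', bot_le⟩ hle)))
    choose e he1 he2 using this
    refine ⟨∏ q' : P, if hne : q' ≠ q then e q' hne else 1, ?_, fun q' hne => ?_⟩
    · haveI := hprime q
      intro hm
      obtain ⟨q', -, hm⟩ := (Ideal.IsPrime.prod_mem_iff).1 hm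
      split_ifs at hm with hne
      · exact he2 q' hne hm
      · exact (hprime q).ne_top ((Ideal.eq_top_iff_one _).2 hm)
    · refine Ideal.mem_of_dvd _ (Finset.dvd_prod_of_mem _ (Finset.mem_univ q')) ?_
      rw [dif_pos hne]
      exact he1 q' hne
  choose e heq heo using he
  -- elements of a minimal prime are killed off it
  have hkill : ∀ (q : P) (a : A), a ∈ q.1 → ∃ t ∉ q.1, t * a = 0 := fun q a ha => by
    refine ⟨∏ q' : P, if q' = q then 1 else (if a ∈ q'.1 then 1 else e q), ?_, ?_⟩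
    · haveI := hprime q
      intro hm
      obtain ⟨q', -, hm⟩ := (Ideal.IsPrime.prod_mem_iff).1 hm
      split_ifs at hm
      · exact (hprime q).ne_top ((Ideal.eq_top_iff_one _).2 hm)
      · exact (hprime q).ne_top ((Ideal.eq_top_iff_one _).2 hm)
      · exact heq q hm
    · refine eq_zero_of_forall_minimalPrimes fun q'' hq'' => ?_
      by_cases haq : a ∈ q''
      · exact q''.mul_mem_left _ haq
      refine q''.mul_mem_right _ (Ideal.mem_of_dvd _
        (Finset.dvd_prod_of_mem _ (Finset.mem_univ (⟨q'', hfin.mem_toFinset.2 hq''⟩ : P))) ?_)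
      have hne : (⟨q'', hfin.mem_toFinset.2 hq''⟩ : P) ≠ q := fun hh => haq (by rw [← hh] at ha; exact ha)
      simp only [if_neg hne, if_neg haq]
      exact heo q _ hne
  let v : M := ∑ q : P, e q • x0 q
  have hu : ∀ q : P, ∃ u ∉ q.1, u • v = (u * e q) • x0 q := fun q => by
    have : ∀ q' : P, ∃ t ∉ q.1, q' ≠ q → t * e q' = 0 := fun q' => by
      by_cases hne : q' = q
      · exact ⟨1, fun h1 => (hprime q).ne_top ((Ideal.eq_top_iff_one _).2 h1), fun h' => absurd hne h'⟩
      · obtain ⟨t, ht, ht'⟩ := hkill q (e q') (heo q' q (Ne.symm hne))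
        exact ⟨t, ht, fun _ => ht'⟩
    choose t ht ht' using this
    refine ⟨∏ q' : P, t q', fun hm => ?_, ?_⟩
    · haveI := hprime q
      obtain ⟨q', -, hm⟩ := (Ideal.IsPrime.prod_mem_iff).1 hm
      exact ht q' hm
    · simp only [v, Finset.smul_sum, smul_smul]
      refine Finset.sum_eq_single q (fun q' _ hne => ?_) (fun hq => absurd (Finset.mem_univ q) hq)
      rw [← Finset.mul_prod_erase Finset.univ t (Finset.mem_univ q'), mul_right_comm, ht' q' hne, zero_mul,
        zero_smul]
  have hv : ∀ (q : P), ∀ t ∉ q.1, t • v ≠ 0 := fun q t ht h0 => by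
    obtain ⟨u, hu1, hu2⟩ := hu q
    refine hx0 q (t * (u * e q)) ?_ ?_
    · haveI := hprime q
      exact fun hm => ((‹q.1.IsPrime›.mem_or_mem hm).elim ht fun h => (‹q.1.IsPrime›.mem_or_mem h).elim hu1 (heq q))
    · rw [mul_smul, ← hu2, smul_comm, h0, smul_zero]
  have hann : ∀ a : A, a • v = 0 → a = 0 := fun a ha => eq_zero_of_forall_minimalPrimes fun q hq => by
    by_contra haq
    exact hv ⟨q, hfin.mem_toFinset.2 hq⟩ a haq ha
  have hden : ∀ y : M, ∃ s ∈ A⁰, ∃ c : A, s • y = c • v := by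
    intro y
    let I : Ideal A :=
      { carrier := {s | ∃ c : A, s • y = c • v}
        add_mem' := by rintro a b ⟨c, hc⟩ ⟨d, hd⟩; exact ⟨c + d, by rw [add_smul, add_smul, hc, hd]⟩
        zero_mem' := ⟨0, by rw [zero_smul, zero_smul]⟩
        smul_mem' := by rintro r a ⟨c, hc⟩; exact ⟨r * c, by rw [smul_eq_mul, mul_smul, mul_smul, hc]⟩ }
    by_contra hc
    push Not at hc
    obtain ⟨q, hq, hle⟩ := (Ideal.subset_union_prime (s := P) (f := id) (I := I) ⊤ ⊤ fun i hi _ _ => (hP hi).1.1).1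
      fun s hs => by
        obtain ⟨c, hc'⟩ := hs
        by_contra hno
        refine hc s (mem_nonZeroDivisors_of_notMem_minimalPrimes' fun q hq hsq => hno ?_) c hc'
        exact Set.mem_biUnion (x := q) (hfin.mem_toFinset.2 hq) hsq
    obtain ⟨t, ht, c, hc'⟩ := hgen ⟨q, hq⟩ y
    obtain ⟨u, hu1, hu2⟩ := hu ⟨q, hq⟩
    haveI := (hP hq).1.1
    have hmem : t * (u * e ⟨q, hq⟩) ∈ q := hle ⟨c * u, by
      rw [mul_comm t, mul_smul, hc', mul_smul c u v, hu2, smul_comm]⟩
    exact (‹q.IsPrime›.mem_or_mem hmem).elim ht fun h => (‹q.IsPrime›.mem_or_mem h).elim hu1 (heq ⟨q, hq⟩)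
  obtain ⟨n, g, hg⟩ := Submodule.fg_iff_exists_fin_generating_family.1 (Module.Finite.fg_top (R := A) (M := M))
  choose s hs c hc using fun i => hden (g i)
  let S := ∏ i, s i
  have hS : S ∈ A⁰ := prod_mem fun i _ => hs i
  let L : A →ₗ[A] M := LinearMap.toSpanSingleton A M v
  have hL : Function.Injective L := (injective_iff_map_eq_zero L).2 fun a ha => hann a ha
  have hmem : ∀ y : M, S • y ∈ LinearMap.range L := fun y => by
    have hy : y ∈ Submodule.span A (Set.range g) := hg ▸ Submodule.mem_top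
    induction hy using Submodule.span_induction with
    | mem y hy =>
      obtain ⟨i, rfl⟩ := hy
      obtain ⟨r, hr⟩ := Finset.dvd_prod_of_mem s (Finset.mem_univ i)
      exact ⟨r * c i, by
        show (r * c i) • v = S • g i
        rw [show S = s i * r from hr, mul_comm (s i), mul_smul, mul_smul, hc]⟩
    | zero => rw [smul_zero]; exact zero_mem _
    | add a b _ _ ha hb => rw [smul_add]; exact add_mem ha hb
    | smul r a _ ha => rw [smul_comm]; exact Submodule.smul_mem _ _ ha
  let φ : M →ₗ[A] A := (LinearEquiv.ofInjective L hL).symm.toLinearMap ∘ₗ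
    ((LinearMap.lsmul A M S).codRestrict _ hmem)
  refine ⟨φ, fun a b hab => ?_, S, hS, v, ?_⟩
  · have h1 := congrArg Subtype.val ((LinearEquiv.ofInjective L hL).symm.injective hab)
    exact sub_eq_zero.1 (htf S hS _ (by rw [smul_sub, show S • a = S • b from h1, sub_self]))
  · refine (LinearEquiv.ofInjective L hL).injective ?_
    show (LinearEquiv.ofInjective L hL) ((LinearEquiv.ofInjective L hL).symm _) = _
    rw [LinearEquiv.apply_symm_apply]
    exact Subtype.ext rfl

end ModifPtLib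

end
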