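import Groth.Agent.ModifPtLib.Up

/-!
# Free stalks, cokernels
-/

set_option autoImplicit false
set_option maxHeartbeats 800000
set_option linter.style.haveILetI false
set_option backward.isDefEq.respectTransparency false
universe u

open CategoryTheory CategoryTheory.Limits AlgebraicGeometry TopologicalSpace Opposite DevissLib

noncomputable section

namespace ModifPtLib

variable {X : Scheme.{u}}

theorem isFinLocFreeOfRank_of_stalk [IsLocallyNoetherian X] (G : X.Modules) (hG : Coh.IsCoh G) (r : ℕ)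
    (h : ∀ y : X, Nonempty (G.presheaf.stalk y ≃ₗ[X.presheaf.stalk y] (Fin r → X.presheaf.stalk y))) :
    FlatMod.IsFinLocFreeOfRank r G := fun y => by
  obtain ⟨e⟩ := h y
  obtain ⟨W, hW, hy⟩ := QCohLib.exists_affine_nhd y
  haveI : Coh.IsQCoh G := hG.1
  haveI : IsNoetherianRing Γ(X, W) := IsLocallyNoetherian.component_noetherian ⟨W, hW⟩
  haveI := QCohLib.finite_of_isFT (M := G) hG.2 hW
  haveI : Module.FinitePresentation Γ(X, W) Γ(G, W) := Module.finitePresentation_of_finite _ _
  letI : Module Γ(X, W) (G.presheaf.stalk y) := Module.compHom _ (X.presheaf.germ W y hy).hom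
  letI : Algebra Γ(X, W) (X.presheaf.stalk y) := (X.presheaf.germ W y hy).hom.toAlgebra
  haveI : IsScalarTower Γ(X, W) (X.presheaf.stalk y) (G.presheaf.stalk y) :=
    IsScalarTower.of_algebraMap_smul fun _ _ => rfl
  haveI : IsLocalization.AtPrime (X.presheaf.stalk y) (hW.primeIdealOf ⟨y, hy⟩).asIdeal :=
    hW.isLocalization_stalk ⟨y, hy⟩
  haveI := FlatLib.isLocalizedModule_germLin G hW hy
  haveI : Module.Free (X.presheaf.stalk y) (G.presheaf.stalk y) := Module.Free.of_equiv e.symm
  obtain ⟨g, hg, hfree, hrank⟩ := Module.FinitePresentation.exists_free_localizedModule_powers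
    (hW.primeIdealOf ⟨y, hy⟩).asIdeal.primeCompl (FlatLib.germLin G hy) (X.presheaf.stalk y)
  have hne : Nontrivial (Localization.Away g) := (IsLocalization.lift (M := Submonoid.powers g)
    (g := algebraMap Γ(X, W) (X.presheaf.stalk y)) fun z =>
      IsLocalization.map_units (X.presheaf.stalk y)
        (⟨z.1, (Submonoid.powers_le (P := (hW.primeIdealOf ⟨y, hy⟩).asIdeal.primeCompl)).2 hg z.2⟩ :
          (hW.primeIdealOf ⟨y, hy⟩).asIdeal.primeCompl)).domain_nontrivial
  have hr : Module.finrank (X.presheaf.stalk y) (G.presheaf.stalk y) = r := by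
    rw [LinearEquiv.finrank_eq e, Module.finrank_fin_fun]
  refine ⟨X.basicOpen g, ?_, CohBCLib.nonempty_restrict_iso_freeMod hW G g
    (Module.finBasisOfFinrankEq _ _ (hrank.trans hr))⟩
  have h : hW.primeIdealOf ⟨y, hy⟩ ∈ hW.fromSpec ⁻¹ᵁ X.basicOpen g := by
    rw [hW.fromSpec_preimage_basicOpen]
    exact hg
  exact (congrArg (fun z : X => z ∈ X.basicOpen g) (hW.fromSpec_primeIdealOf ⟨y, hy⟩)).mp h

theorem subsingleton_cokernel_stalk {A B : X.Modules} (f : A ⟶ B) (p : X)
    (h : Function.Surjective ((St p).map f).hom) : Subsingleton ((cokernel f).presheaf.stalk p) := by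
  suffices hz : ∀ c : (St p).obj (cokernel f), c = 0 from ⟨fun a b => (hz a).trans (hz b).symm⟩
  intro c
  obtain ⟨b, rfl⟩ := PrimDecLib.cokernel_π_surjective f p c
  exact (PrimDecLib.cokernel_π_eq_zero_iff f p b).2 (h b)

/-- The stalk of a cokernel, computed by a surjection out of a module isomorphic to the stalk. -/
theorem exists_cokernel_stalk_equiv {A B : X.Modules} (f : A ⟶ B) (p : X)
    {M N : Type u} [AddCommGroup M] [Module (X.presheaf.stalk p) M] [AddCommGroup N] [Module (X.presheaf.stalk p) N]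
    (e : (St p).obj B ≃ₗ[X.presheaf.stalk p] M) (q : M →ₗ[X.presheaf.stalk p] N) (hq : Function.Surjective q)
    (hker : ∀ v, q v = 0 ↔ ∃ a, e (((St p).map f).hom a) = v) :
    Nonempty ((cokernel f).presheaf.stalk p ≃ₗ[X.presheaf.stalk p] N) := by
  let π := ((St p).map (cokernel.π f)).hom
  let s := q ∘ₗ e.toLinearMap
  have h1 : LinearMap.ker π = LinearMap.ker s := by
    ext b
    rw [LinearMap.mem_ker, PrimDecLib.cokernel_π_eq_zero_iff, LinearMap.mem_ker]
    show _ ↔ q (e b) = 0
    rw [hker]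
    exact ⟨fun ⟨a, ha⟩ => ⟨a, congrArg e ha⟩, fun ⟨a, ha⟩ => ⟨a, e.injective ha⟩⟩
  exact ⟨(π.quotKerEquivOfSurjective (PrimDecLib.cokernel_π_surjective f p)).symm.trans
    ((Submodule.quotEquivOfEq _ _ h1).trans (s.quotKerEquivOfSurjective (hq.comp e.surjective)))⟩

end ModifPtLib

end
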