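import Groth.Agent.DiagTorLib.Serre

/-!
# The rank of a stalk on an integral scheme
-/

set_option autoImplicit false
set_option backward.isDefEq.respectTransparency false
set_option backward.isDefEq.respectTransparency.types false
set_option linter.style.haveILetI false

universe u

open CategoryTheory CategoryTheory.Limits AlgebraicGeometry TopologicalSpace
open EquidimLib (stalkPt)
open CycDivLib (primeOf)
open scoped nonZeroDivisors

noncomputable section

namespace ModifPtLib

variable {X : Scheme.{u}}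

theorem finrank_stalk_generization [IsIntegral X] (M : X.Modules) [Coh.IsQCoh M] {x ξ : X} (h : ξ ⤳ x) :
    Module.finrank (X.presheaf.stalk ξ) (M.presheaf.stalk ξ) =
      Module.finrank (X.presheaf.stalk x) (M.presheaf.stalk x) := by
  letI := (X.presheaf.stalkSpecializes h).hom.toAlgebra
  haveI := CycDivLib.isLocalization_stalkSpecializes h
  letI : Module (X.presheaf.stalk x) (M.presheaf.stalk ξ) :=
    Module.compHom _ (X.presheaf.stalkSpecializes h).hom
  haveI : IsScalarTower (X.presheaf.stalk x) (X.presheaf.stalk ξ) (M.presheaf.stalk ξ) :=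
    IsScalarTower.of_algebraMap_smul fun _ _ => rfl
  let sp : M.presheaf.stalk x →ₗ[X.presheaf.stalk x] M.presheaf.stalk ξ :=
    { toFun := fun v => M.presheaf.stalkSpecializes h v
      map_add' := fun a b => map_add (M.presheaf.stalkSpecializes h).hom a b
      map_smul' := fun a v => CycC1Lib.stalkSpecializes_smul M h a v }
  obtain ⟨U, hU, hxU, -⟩ := exists_isAffineOpen_mem_and_subset (X := X) (x := x) (U := ⊤) trivial
  have hξU : ξ ∈ U := h.mem_open U.isOpen hxU
  have hgξ : ∀ r : Γ(X, U), (X.presheaf.stalkSpecializes h).hom ((X.presheaf.germ U x hxU).hom r) =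
      (X.presheaf.germ U ξ hξU).hom r := fun r => TopCat.Presheaf.germ_stalkSpecializes_apply X.presheaf hxU h r
  have hmem : ∀ r : Γ(X, U), (X.presheaf.germ U x hxU).hom r ∈ (primeOf h).asIdeal.primeCompl ↔
      r ∈ (hU.primeIdealOf ⟨ξ, hξU⟩).asIdeal.primeCompl := fun r => by
    show ¬ ((X.presheaf.stalkSpecializes h).hom ((X.presheaf.germ U x hxU).hom r) ∈ IsLocalRing.maximalIdeal _) ↔ _
    rw [hgξ, IsLocalRing.mem_maximalIdeal]
    exact not_congr (SDivLib.mem_prm_iff (⟨U, hU⟩ : X.affineOpens) hξU r).symm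
  haveI : IsLocalizedModule (primeOf h).asIdeal.primeCompl sp := by
    refine ⟨fun s => ?_, fun σ => ?_, fun {a b} hab => ?_⟩
    · rw [Module.End.isUnit_iff]
      have hu := IsLocalization.map_units (X.presheaf.stalk ξ) s
      obtain ⟨v, hv⟩ := hu
      refine ⟨fun a b hab => ?_, fun a => ⟨(↑v⁻¹ : X.presheaf.stalk ξ) • a, ?_⟩⟩
      · replace hab : algebraMap _ (X.presheaf.stalk ξ) (s : X.presheaf.stalk x) • a = algebraMap _ (X.presheaf.stalk ξ) (s : X.presheaf.stalk x) • b := hab
        rw [← hv] at hab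
        exact (v.isUnit.smul_left_cancel).mp hab
      · show algebraMap _ (X.presheaf.stalk ξ) (s : X.presheaf.stalk x) • (↑v⁻¹ : X.presheaf.stalk ξ) • a = a
        rw [← hv, ← mul_smul, Units.mul_inv, one_smul]
    · letI := Module.compHom (M.presheaf.stalk ξ) (X.presheaf.germ U ξ hξU).hom
      haveI := FlatLib.isLocalizedModule_germLin M hU hξU
      obtain ⟨⟨m, s⟩, hs⟩ := IsLocalizedModule.surj (hU.primeIdealOf ⟨ξ, hξU⟩).asIdeal.primeCompl (FlatLib.germLin M hξU) σ
      refine ⟨(M.presheaf.germ U x hxU m, ⟨(X.presheaf.germ U x hxU).hom s.1, (hmem _).2 s.2⟩), ?_⟩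
      show (X.presheaf.stalkSpecializes h).hom ((X.presheaf.germ U x hxU).hom s.1) • σ =
        M.presheaf.stalkSpecializes h (M.presheaf.germ U x hxU m)
      rw [hgξ, TopCat.Presheaf.germ_stalkSpecializes_apply]
      exact hs
    · letI := Module.compHom (M.presheaf.stalk x) (X.presheaf.germ U x hxU).hom
      haveI := FlatLib.isLocalizedModule_germLin M hU hxU
      obtain ⟨⟨m, s⟩, hs⟩ := IsLocalizedModule.surj (hU.primeIdealOf ⟨x, hxU⟩).asIdeal.primeCompl (FlatLib.germLin M hxU) (a - b)
      replace hs : (X.presheaf.germ U x hxU).hom s.1 • (a - b) = M.presheaf.germ U x hxU m := hs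
      have h0 : M.presheaf.germ U ξ hξU m = 0 := by
        rw [← TopCat.Presheaf.germ_stalkSpecializes_apply M.presheaf hxU h, ← hs]
        show sp ((X.presheaf.germ U x hxU).hom s.1 • (a - b)) = 0
        rw [map_smul, map_sub, hab, sub_self, smul_zero]
      letI := Module.compHom (M.presheaf.stalk ξ) (X.presheaf.germ U ξ hξU).hom
      haveI := FlatLib.isLocalizedModule_germLin M hU hξU
      obtain ⟨t, ht⟩ := (IsLocalizedModule.eq_zero_iff (hU.primeIdealOf ⟨ξ, hξU⟩).asIdeal.primeCompl (FlatLib.germLin M hξU)).1 h0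
      letI := X.presheaf.algebra_section_stalk (⟨x, hxU⟩ : U)
      haveI : IsLocalization.AtPrime (X.presheaf.stalk x) (hU.primeIdealOf ⟨x, hxU⟩).asIdeal :=
        hU.isLocalization_stalk ⟨x, hxU⟩
      obtain ⟨v, hv⟩ := IsLocalization.map_units (X.presheaf.stalk x) s
      refine ⟨⟨(X.presheaf.germ U x hxU).hom t.1, (hmem _).2 t.2⟩, ?_⟩
      show (X.presheaf.germ U x hxU).hom t.1 • a = (X.presheaf.germ U x hxU).hom t.1 • b
      rw [← sub_eq_zero, ← smul_sub]
      have h1 : (X.presheaf.germ U x hxU).hom t.1 • (X.presheaf.germ U x hxU).hom s.1 • (a - b) = 0 := by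
        rw [hs, ← FlatLib.germ_smul_mod M hxU]
        show M.presheaf.germ U x hxU ((t : Γ(X, U)) • m) = 0
        have ht' : (t : Γ(X, U)) • m = 0 := ht
        rw [ht', map_zero]
      rw [smul_comm] at h1
      have hu : IsUnit ((X.presheaf.germ U x hxU).hom s.1) := ⟨v, hv⟩
      exact hu.smul_eq_zero.1 h1
  have hp : (primeOf h).asIdeal.primeCompl ≤ (X.presheaf.stalk x)⁰ := fun a ha =>
    mem_nonZeroDivisors_of_ne_zero fun h0 => ha (h0 ▸ zero_mem _)
  rw [IsLocalization.finrank_eq (X.presheaf.stalk ξ) (primeOf h).asIdeal.primeCompl hp,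
    IsLocalizedModule.finrank_eq (primeOf h).asIdeal.primeCompl sp hp]

end ModifPtLib

end
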