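import Groth.Agent.ModifPtLib.Curve
import Groth.Agent.ModifPtLib.Free
import Groth.Agent.ModifPtLib.Generic
import Groth.Agent.StabLib.FibreZero
import Groth.Agent.LocFreeCorepLib.Main
import Groth.Agent.ExactHpLib.QTest
import Groth.Agent.RhoBigLib.Free
import Groth.Agent.MiscFlat6.NormalLowDim

/-!
# Locally free lattices below and above a torsion-free sheaf on an integral curve
-/

set_option autoImplicit false
set_option maxHeartbeats 800000
set_option linter.style.haveILetI false
set_option backward.isDefEq.respectTransparency false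
universe u

open CategoryTheory CategoryTheory.Limits AlgebraicGeometry TopologicalSpace Opposite DevissLib
open scoped nonZeroDivisors

noncomputable section

namespace ModifPtLib

theorem exists_pow_mem_span {A : Type u} [CommRing A] [IsLocalRing A] [IsDomain A] (hA : ringKrullDim A ≤ 1)
    {s z : A} (hs : s ≠ 0) (hz : z ∈ IsLocalRing.maximalIdeal A) : ∃ k : ℕ, z ^ k ∈ Ideal.span {s} := by
  have : z ∈ (Ideal.span {s}).radical := by
    rw [← Ideal.sInf_minimalPrimes, Submodule.mem_sInf]
    intro q hq
    haveI := hq.1.1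
    suffices h : q = IsLocalRing.maximalIdeal A by exact h ▸ hz
    by_contra hne
    have hlt : q < IsLocalRing.maximalIdeal A := lt_of_le_of_ne (IsLocalRing.le_maximalIdeal hq.1.1.ne_top) hne
    let a₀ : PrimeSpectrum A := ⟨⊥, Ideal.isPrime_bot⟩
    let a₁ : PrimeSpectrum A := ⟨q, hq.1.1⟩
    let a₂ : PrimeSpectrum A := ⟨IsLocalRing.maximalIdeal A, inferInstance⟩
    have h01 : a₀ < a₁ := lt_of_le_of_ne (show (⊥ : Ideal A) ≤ q from bot_le) fun e => hs (by
      have h2 : s ∈ q := hq.1.2 (Ideal.mem_span_singleton_self s)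
      rw [show q = ⊥ from (congrArg PrimeSpectrum.asIdeal e).symm] at h2
      exact (Submodule.mem_bot A).1 h2)
    let c : LTSeries (PrimeSpectrum A) :=
      ((RelSeries.singleton _ a₀).snoc a₁ h01).snoc a₂ (by rw [RelSeries.last_snoc]; exact hlt)
    have h3 : ((c.length : ℕ∞) : WithBot ℕ∞) ≤ ((1 : ℕ) : WithBot ℕ∞) :=
      (Order.LTSeries.length_le_krullDim c).trans hA
    rw [show c.length = 2 from rfl] at h3
    exact absurd h3 (by norm_num)
  exact this

theorem exists_lattice {A M : Type u} [CommRing A] [IsDomain A] [AddCommGroup M] [Module A M] [Module.Finite A M]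
    (n : ℕ) (hn : Module.finrank A M = n) :
    ∃ v : Fin n → M, LinearIndependent A v ∧ ∃ s : A, s ≠ 0 ∧ ∀ m, s • m ∈ Submodule.span A (Set.range v) := by
  classical
  obtain ⟨v, hv⟩ := exists_linearIndependent_of_le_finrank (R := A) (M := M) hn.ge
  refine ⟨v, hv, ?_⟩
  let N := Submodule.span A (Set.range v)
  have htor : ∀ g : M, ∃ s : A, s ≠ 0 ∧ s • g ∈ N := by
    intro g
    by_contra h
    push Not at h
    have hli : LinearIndependent A (Fin.cons g v : Fin (n + 1) → M) := by
      rw [Fintype.linearIndependent_iff]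
      intro c hc
      rw [Fin.sum_univ_succ] at hc
      simp only [Fin.cons_zero, Fin.cons_succ] at hc
      have h0 : c 0 = 0 := by
        by_contra h0
        refine h _ h0 ?_
        rw [eq_neg_of_add_eq_zero_left hc]
        exact N.neg_mem (N.sum_mem fun i _ => N.smul_mem _ (Submodule.subset_span ⟨i, rfl⟩))
      rw [h0, zero_smul, zero_add] at hc
      intro i
      refine Fin.cases h0 (fun j => ?_) i
      exact Fintype.linearIndependent_iff.1 hv (fun j => c j.succ) hc j
    have := hli.fintype_card_le_finrank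
    simp [hn] at this
  choose s hs hsN using htor
  obtain ⟨m, g, hg⟩ := Submodule.fg_iff_exists_fin_generating_family.1 (Module.Finite.fg_top (R := A) (M := M))
  refine ⟨∏ i, s (g i), Finset.prod_ne_zero_iff.2 fun i _ => hs _, fun x => ?_⟩
  have hx : x ∈ Submodule.span A (Set.range g) := hg ▸ Submodule.mem_top
  induction hx using Submodule.span_induction with
  | mem x hx =>
    obtain ⟨i, rfl⟩ := hx
    obtain ⟨t, ht⟩ := Finset.dvd_prod_of_mem (fun i => s (g i)) (Finset.mem_univ i)
    rw [ht, mul_comm, mul_smul]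
    exact N.smul_mem _ (hsN _)
  | zero => rw [smul_zero]; exact N.zero_mem
  | add a b _ _ ha hb => rw [smul_add]; exact N.add_mem ha hb
  | smul c a _ ha => rw [smul_comm]; exact N.smul_mem _ ha

variable {X : Scheme.{u}}

theorem exists_sub_and_super [IsNoetherian X] [IsIntegral X] (hdim : topologicalKrullDim X ≤ 1)
    (F : X.Modules) (hF : Coh.IsCoh F) (hFt : TorSh.IsTorsionFree F) (n : ℕ)
    (hn : Module.finrank (X.presheaf.stalk (genericPoint X)) (F.presheaf.stalk (genericPoint X)) = n) :
    (∃ (E : X.Modules) (i : E ⟶ F), FlatMod.IsFinLocFreeOfRank n E ∧ Mono i ∧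
      ∀ x : X, IsRegularLocalRing (X.presheaf.stalk x) → Subsingleton ((cokernel i).presheaf.stalk x)) ∧
    (∃ (E' : X.Modules) (j : F ⟶ E'), FlatMod.IsFinLocFreeOfRank n E' ∧ Mono j ∧
      ∀ x : X, IsRegularLocalRing (X.presheaf.stalk x) → Subsingleton ((cokernel j).presheaf.stalk x)) := by
  classical
  haveI : Coh.IsQCoh F := hF.1
  let η := genericPoint X
  have hgenη : ∀ y : X, FinPicLib.IsGen y → y = η := fun y hy =>
    (hy η (genericPoint_specializes y)).symm
  have hfinite : ∀ y : X, Module.Finite (X.presheaf.stalk y) (F.presheaf.stalk y) := fun y => by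
    haveI := DevissLib.isNoetherian_stalk hF y
    exact inferInstanceAs (Module.Finite (X.presheaf.stalk y) ((St y).obj F))
  have hrank : ∀ y : X, Module.finrank (X.presheaf.stalk y) (F.presheaf.stalk y) = n := fun y =>
    (finrank_stalk_generization F (genericPoint_specializes y)).symm.trans hn
  have hfree_equiv : ∀ y : X, Module.Free (X.presheaf.stalk y) (F.presheaf.stalk y) →
      Nonempty (F.presheaf.stalk y ≃ₗ[X.presheaf.stalk y] (Fin n → X.presheaf.stalk y)) := fun y hy => by
    haveI := hfinite y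
    exact ⟨(Module.finBasisOfFinrankEq _ _ (hrank y)).equivFun⟩
  have hFK : IsField (X.presheaf.stalk η) := Semifield.toIsField X.functionField
  haveI : Module.Free (X.presheaf.stalk η) (F.presheaf.stalk η) := by
    letI := hFK.toField
    exact Module.Free.of_divisionRing _ _
  obtain ⟨U₀, m, hηU, ⟨e₀⟩⟩ := CohFlatEtLib.exists_free_nhd_of_stalk F hF η
  have hU₀ : ∀ y ∈ U₀, Module.Free (X.presheaf.stalk y) (F.presheaf.stalk y) := fun y hy => by
    haveI := hfinite y
    haveI : Module.Projective (X.presheaf.stalk y) (F.presheaf.stalk y) := StabLib.projective_stalk_of_restrict (M := F) U₀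
      (ExactHpLib.isFinLocFree_of_iso e₀.symm (Groth.Agent.LocFreeCorepLib.isFinLocFree_freeMod m)) hy
    exact Module.free_of_flat_of_isLocalRing
  have hscl : IsClosed ((U₀ : Set X)ᶜ) := U₀.2.isClosed_compl
  have hgen : ∀ x ∈ (U₀ : Set X)ᶜ, ¬ FinPicLib.IsGen x := fun x hx hg => hx (hgenη x hg ▸ hηU)
  have hSfin : ((U₀ : Set X)ᶜ).Finite := by
    obtain ⟨C, hCfin, hCc, hCi, hSC⟩ := TopologicalSpace.NoetherianSpace.exists_finite_set_isClosed_irreducible hscl
    rw [hSC]
    refine hCfin.sUnion fun t ht => ?_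
    obtain ⟨ξ, hξ⟩ := QuasiSober.sober (hCi t ht) (hCc t ht)
    have hξt : ξ ∈ t := hξ.def ▸ subset_closure (Set.mem_singleton ξ)
    refine (Set.finite_singleton ξ).subset fun w hw => ?_
    exact (FinPicLib.eq_of_specializes_of_not_isGen hdim (hgen ξ (hSC ▸ Set.mem_sUnion_of_mem hξt ht))
      (specializes_iff_mem_closure.2 (hξ.def.symm ▸ hw))).symm
  let T := hSfin.toFinset
  have hT : ∀ x, x ∉ T → Module.Free (X.presheaf.stalk x) (F.presheaf.stalk x) := fun x hx =>
    hU₀ x (not_not.1 fun h => hx (hSfin.mem_toFinset.2 h))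
  have hTc : ∀ x ∈ T, IsClosed ({x} : Set X) := fun x hx => isClosed_of_not_isGen hdim (hgen x (hSfin.mem_toFinset.1 hx))
  obtain ⟨D, hD⟩ := exists_data hdim T fun x hx => hgen x (hSfin.mem_toFinset.1 hx)
  have hdimx : ∀ x : X, ringKrullDim (X.presheaf.stalk x) ≤ 1 := fun x =>
    (MiscFlat6.ringKrullDim_stalk_le X x).trans hdim
  -- the lattices at each point
  have hL : ∀ x : X, ∃ (v : Fin n → F.presheaf.stalk x), LinearIndependent (X.presheaf.stalk x) v ∧
      (IsRegularLocalRing (X.presheaf.stalk x) → Submodule.span (X.presheaf.stalk x) (Set.range v) = ⊤) ∧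
      ∃ s : X.presheaf.stalk x, s ≠ 0 ∧ (IsRegularLocalRing (X.presheaf.stalk x) → s = 1) ∧
        ∀ m, s • m ∈ Submodule.span (X.presheaf.stalk x) (Set.range v) := fun x => by
    haveI := hfinite x
    by_cases hreg : IsRegularLocalRing (X.presheaf.stalk x)
    · haveI := hreg
      haveI := hFt x
      haveI := RhoBigLib.free_of_torsionFree (M := F.presheaf.stalk x) (hdimx x)
      let b := Module.finBasisOfFinrankEq (X.presheaf.stalk x) (F.presheaf.stalk x) (hrank x)
      exact ⟨b, b.linearIndependent, fun _ => b.span_eq, 1, one_ne_zero, fun _ => rfl, fun m => by rw [b.span_eq]; trivial⟩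
    · obtain ⟨v, hv, s, hs, hsm⟩ := exists_lattice n (hrank x)
      exact ⟨v, hv, fun h => absurd h hreg, s, hs, fun h => absurd h hreg, hsm⟩
  choose v hvli hvtop s hs hs1 hsm using hL
  constructor
  · let Q : ∀ x : X, Submodule (X.presheaf.stalk x) ((St x).obj F) := fun x =>
      Submodule.span (X.presheaf.stalk x) (Set.range (v x))
    have hQ : ∀ x ∈ T, ∀ r ∈ IsLocalRing.maximalIdeal (X.presheaf.stalk x),
        ∃ k : ℕ, ∀ m : (St x).obj F, r ^ k • m ∈ Q x := fun x _ r hr => by
      obtain ⟨k, hk⟩ := exists_pow_mem_span (hdimx x) (hs x) hr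
      obtain ⟨c, hc⟩ := Ideal.mem_span_singleton'.1 hk
      exact ⟨k, fun m => by rw [← hc, mul_smul]; exact (Q x).smul_mem _ (hsm x m)⟩
    let S := PrimDecLib.LS F T Q
    have hE : Coh.IsCoh S.toModules := PrimDecLib.isCoh_LS hF T Q hQ
    refine ⟨S.toModules, S.ι, isFinLocFreeOfRank_of_stalk _ hE n fun y => ?_, inferInstance, fun y hy => ?_⟩
    · let e := LinearEquiv.ofInjective _ (injective_St_ι S y)
      by_cases hy : y ∈ T
      · have hr : LinearMap.range ((St y).map S.ι).hom = Q y := by
          ext a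
          rw [mem_range_LS T hTc Q y]
          exact ⟨fun h => h hy, fun h _ => h⟩
        exact ⟨e.trans ((LinearEquiv.ofEq _ _ hr).trans (Module.Basis.span (hvli y)).equivFun)⟩
      · have hr : LinearMap.range ((St y).map S.ι).hom = ⊤ := by
          ext a
          simp only [Submodule.mem_top, iff_true]
          exact (mem_range_LS T hTc Q y a).2 fun h => absurd h hy
        exact ⟨e.trans ((LinearEquiv.ofTop _ hr).trans (hfree_equiv y (hT y hy)).some)⟩
    · refine subsingleton_cokernel_stalk _ _ fun a => ?_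
      exact (mem_range_LS T hTc Q y a).2 fun _ => by
        show a ∈ Submodule.span _ _
        rw [hvtop y hy]; trivial
  · let φ : ∀ x, (St x).obj F →ₗ[X.presheaf.stalk x] (Fin n → X.presheaf.stalk x) := fun x =>
      (Module.Basis.span (hvli x)).equivFun.toLinearMap ∘ₗ
        ((LinearMap.lsmul (X.presheaf.stalk x) (F.presheaf.stalk x) (s x)).codRestrict _ (hsm x))
    have hφsurj : ∀ x (w : Fin n → X.presheaf.stalk x), ∃ m, φ x m = s x • w := fun x w => by
      refine ⟨((Module.Basis.span (hvli x)).equivFun.symm w).1, ?_⟩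
      show (Module.Basis.span (hvli x)).equivFun _ = _
      rw [← (Module.Basis.span (hvli x)).equivFun.eq_symm_apply]
      refine Subtype.ext ?_
      rw [map_smul]
      rfl
    obtain ⟨G, j, hG, hj, hout, hin⟩ := exists_up F hF T hTc D
      (fun x hx m hm => by
        haveI := hFt x
        have hm' : (D.d x hx).z • (show F.presheaf.stalk x from m) = 0 := hm
        exact (smul_eq_zero.1 hm').resolve_left (nonZeroDivisors.ne_zero (hD x hx).1))
      (fun x => Fin n → X.presheaf.stalk x) φ
      (fun x hx a b hab => by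
        haveI := hFt x
        have h := congrArg Subtype.val ((Module.Basis.span (hvli x)).equivFun.injective hab)
        exact smul_right_injective (M := F.presheaf.stalk x) (hs x) h)
      (fun x hx => by
        obtain ⟨k, hk⟩ := exists_pow_mem_span (hdimx x) (hs x) (hD x hx).2
        obtain ⟨c, hc⟩ := Ideal.mem_span_singleton'.1 hk
        exact ⟨k, fun w => by
          obtain ⟨m, hm⟩ := hφsurj x (c • w)
          exact ⟨m, by rw [hm, ← hc, mul_comm, mul_smul]⟩⟩)
      (fun x hx w hw => (smul_eq_zero.1 hw).resolve_left (nonZeroDivisors.ne_zero (hD x hx).1))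
    refine ⟨G, j, isFinLocFreeOfRank_of_stalk _ hG n fun y => ?_, hj, fun y hy => ?_⟩
    · by_cases hy : y ∈ T
      · obtain ⟨e, -⟩ := hin y hy
        exact ⟨e⟩
      · exact ⟨(LinearEquiv.ofBijective _ (hout y hy)).symm.trans (hfree_equiv y (hT y hy)).some⟩
    · refine subsingleton_cokernel_stalk _ _ ?_
      by_cases hyT : y ∈ T
      · obtain ⟨e, he⟩ := hin y hyT
        intro b
        obtain ⟨m, hm⟩ := hφsurj y (e b)
        refine ⟨m, e.injective ?_⟩
        rw [he, hm, hs1 y hy, one_smul]
      · exact (hout y hyT).2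

end ModifPtLib

end
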