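import Groth.Agent.DevissLib.Basic
import Groth.Agent.QCohLib.Extend
import Groth.Agent.QCohLib.AffineFinite
import Groth.Agent.QCohLib.Push

/-!
# The extension of a module from the complement of finitely many points
-/

set_option autoImplicit false
set_option maxHeartbeats 800000
set_option linter.style.haveILetI false
set_option backward.isDefEq.respectTransparency false
universe u

open CategoryTheory CategoryTheory.Limits AlgebraicGeometry TopologicalSpace Opposite DevissLib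

noncomputable section

namespace ModifPtLib

variable {X : Scheme.{u}} (F : X.Modules) (U : X.Opens)

/-- `j_* j^* F`. -/
abbrev P : X.Modules := (Scheme.Modules.pushforward U.ι).obj (F.restrict U.ι)

/-- The restriction `F → j_* j^* F`. -/
abbrev j : F ⟶ P F U := (Scheme.Modules.restrictAdjunction U.ι).unit.app F

theorem j_app (W : X.Opens) (a : Γ(F, W)) :
    (j F U).app W a = F.presheaf.map (homOfLE (U.ι.image_preimage_le W)).op a :=
  congr($(Scheme.Modules.restrictAdjunction_unit_app_app U.ι F W) a)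

/-- A neighbourhood of `x` with an equation of the removed points. -/
structure Punct (x : X) where
  V : X.Opens
  hV : IsAffineOpen V
  hx : x ∈ V
  g : Γ(X, V)
  hg : X.basicOpen g = V ⊓ U

variable {F U}

/-- Sections of `j_* j^* F` as sections of the restriction. -/
abbrev toR {W : X.Opens} (y : Γ(P F U, W)) : Γ(F.restrict U.ι, U.ι ⁻¹ᵁ W) := y

/-- Sections of `j_* j^* F` as sections of `F`. -/
abbrev toF {W : X.Opens} (y : Γ(P F U, W)) : Γ(F, U.ι ''ᵁ (U.ι ⁻¹ᵁ W)) := y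

theorem toR_smul {W : X.Opens} (r : Γ(X, W)) (y : Γ(P F U, W)) : toR (r • y) = U.ι.app W r • toR y := rfl

theorem toF_smul {W : X.Opens} (r : Γ(X, W)) (y : Γ(P F U, W)) :
    toF (r • y) = X.presheaf.map (homOfLE (U.ι.image_preimage_le W)).op r • toF y :=
  (Scheme.Modules.smul_restrictAppIso_hom_apply U.ι F (U.ι ⁻¹ᵁ W) (U.ι.app W r) (toR y)).trans
    (congrArg (· • toF y) (by
      rw [← CommRingCat.comp_apply]
      simp [Scheme.Opens.ι_app, Scheme.Opens.ι_appIso]
      rfl))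

theorem toF_map {W W' : X.Opens} (i : W' ⟶ W) (y : Γ(P F U, W)) :
    toF ((P F U).presheaf.map i.op y) =
      F.presheaf.map (homOfLE (U.ι.image_mono (U.ι.preimage_mono i.le))).op (toF y) := rfl

theorem bijective_j {p : X} (hp : p ∈ U) : Function.Bijective ((St p).map (j F U)).hom := by
  refine ⟨fun a b hab => ?_, fun n => ?_⟩
  · rw [← sub_eq_zero] at hab ⊢
    rw [← map_sub] at hab
    obtain ⟨W, hpW, s, hs⟩ := exists_gm_eq F p (a - b)
    rw [← hs, gm_app] at hab
    rw [← hs]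
    obtain ⟨W', hpW', i₁, i₂, hW'⟩ := TopCat.Presheaf.germ_eq (P F U).presheaf p hpW hpW
      ((j F U).app W s) 0 (hab.trans (gm_zero (P F U) p hpW).symm)
    rw [map_zero] at hW'
    have hW'' : (j F U).app W' (F.presheaf.map i₁.op s) = 0 := (QCohLib.app_map (j F U) i₁ s).trans hW'
    rw [j_app] at hW''
    have hp'' : p ∈ U.ι ''ᵁ (U.ι ⁻¹ᵁ W') := ⟨⟨p, hp⟩, hpW', rfl⟩
    rw [← gm_map F i₁.le p hpW', ← gm_map F (U.ι.image_preimage_le W') p hp'']
    exact (congr_arg (gm F p hp'') hW'').trans (gm_zero F p hp'')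
  · obtain ⟨W, hpW, s, hs⟩ := exists_gm_eq (P F U) p n
    have hpO : p ∈ U.ι ''ᵁ (U.ι ⁻¹ᵁ W) := ⟨⟨p, hp⟩, hpW, rfl⟩
    refine ⟨gm F p hpO (toF s), ?_⟩
    rw [gm_app, ← hs, ← gm_map (P F U) (U.ι.image_preimage_le W) p hpO s]
    refine congrArg (gm (P F U) p hpO) ?_
    show toF _ = toF _
    rw [toF_map]
    show (j F U).app _ (toF s) = _
    rw [j_app]

variable {x : X} (d : Punct U x)

/-- The germ of the equation. -/
def Punct.z : X.presheaf.stalk x := X.presheaf.germ d.V x d.hx d.g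

theorem bijective_z_smul : Function.Bijective fun n : (St x).obj (P F U) => d.z • n := by
  have hunit : ∀ {W : X.Opens} (h : W ≤ d.V),
      IsUnit (U.ι.app W (X.presheaf.map (homOfLE h).op d.g)) := fun {W} h => by
    refine (U : Scheme.{u}).toRingedSpace.isUnit_of_isUnit_germ _ _ fun y hy => ?_
    refine ((U : Scheme.{u}).mem_basicOpen _ y hy).1 ?_
    rw [← Scheme.preimage_basicOpen, Scheme.basicOpen_res]
    show U.ι y ∈ W ⊓ X.basicOpen d.g
    rw [d.hg]
    exact ⟨hy, h hy, y.2⟩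
  refine ⟨fun a b hab => ?_, fun n => ?_⟩
  · change d.z • a = d.z • b at hab
    rw [← sub_eq_zero] at hab ⊢
    rw [← smul_sub] at hab
    obtain ⟨W₀, hxW₀, s₀, hs₀⟩ := exists_gm_eq (P F U) x (a - b)
    let W : X.Opens := W₀ ⊓ d.V
    let s : Γ(P F U, W) := (P F U).presheaf.map (homOfLE inf_le_left).op s₀
    have hs : gm (P F U) x (⟨hxW₀, d.hx⟩ : x ∈ W) s = a - b := (gm_map _ _ _ _ s₀).trans hs₀
    have hz : X.presheaf.germ W x ⟨hxW₀, d.hx⟩ (X.presheaf.map (homOfLE inf_le_right).op d.g) = d.z :=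
      TopCat.Presheaf.germ_res_apply _ _ _ _ _
    rw [← hs, ← hz, ← gm_smul] at hab
    rw [← hs]
    obtain ⟨W', hxW', i₁, i₂, hW'⟩ := TopCat.Presheaf.germ_eq (P F U).presheaf x _ _ _ 0
      (hab.trans (gm_zero (P F U) x (U := W) ⟨hxW₀, d.hx⟩).symm)
    rw [map_zero, QCohLib.map_smul', ← CategoryTheory.ConcreteCategory.comp_apply, ← Functor.map_comp,
      ← op_comp] at hW'
    have h1 : (P F U).presheaf.map i₁.op s = 0 :=
      (show toR ((P F U).presheaf.map i₁.op s) = 0 from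
        (hunit (i₁.le.trans inf_le_right)).smul_eq_zero.1
          ((toR_smul _ _).symm.trans (congrArg toR hW')))
    rw [← gm_map (P F U) i₁.le x hxW']
    exact (congr_arg (gm (P F U) x hxW') h1).trans (gm_zero _ x hxW')
  · obtain ⟨W₀, hxW₀, s₀, hs₀⟩ := exists_gm_eq (P F U) x n
    let W : X.Opens := W₀ ⊓ d.V
    let s : Γ(P F U, W) := (P F U).presheaf.map (homOfLE inf_le_left).op s₀
    have hs : gm (P F U) x (⟨hxW₀, d.hx⟩ : x ∈ W) s = n := (gm_map _ _ _ _ s₀).trans hs₀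
    obtain ⟨v, hv⟩ := hunit (W := W) inf_le_right
    let t : Γ(F.restrict U.ι, U.ι ⁻¹ᵁ W) := (↑v⁻¹ : Γ(↑U, U.ι ⁻¹ᵁ W)) • toR s
    refine ⟨gm (P F U) x (U := W) ⟨hxW₀, d.hx⟩ t, ?_⟩
    have hz : X.presheaf.germ W x ⟨hxW₀, d.hx⟩ (X.presheaf.map (homOfLE inf_le_right).op d.g) = d.z :=
      TopCat.Presheaf.germ_res_apply _ _ _ _ _
    show d.z • _ = n
    rw [← hz, ← gm_smul, ← hs]
    refine congrArg (gm (P F U) x (U := W) ⟨hxW₀, d.hx⟩) ?_
    show toR _ = toR s
    rw [toR_smul, ← hv]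
    exact smul_inv_smul v (toR s)

theorem pow_smul_eq_zero {A M : Type*} [CommRing A] [AddCommGroup M] [Module A M] {z : A}
    (hz : ∀ m : M, z • m = 0 → m = 0) : ∀ (k : ℕ) (m : M), z ^ k • m = 0 → m = 0
  | 0, m, h => by simpa using h
  | k + 1, m, h => pow_smul_eq_zero hz k m (hz _ (by rw [← mul_smul, ← pow_succ']; exact h))

variable [Coh.IsQCoh F]

theorem exists_pow_smul_mem_range (n : (St x).obj (P F U)) :
    ∃ (k : ℕ) (m : (St x).obj F), ((St x).map (j F U)).hom m = d.z ^ k • n := by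
  obtain ⟨W₀, hxW₀, s₀, hs₀⟩ := exists_gm_eq (P F U) x n
  obtain ⟨D, hD, hxD, hDW⟩ := TopologicalSpace.Opens.isBasis_iff_nbhd.mp X.isBasis_affineOpens
    (show x ∈ W₀ ⊓ d.V from ⟨hxW₀, d.hx⟩)
  let g : Γ(X, D) := X.presheaf.map (homOfLE (hDW.trans inf_le_right)).op d.g
  have hb : X.basicOpen g = U.ι ''ᵁ (U.ι ⁻¹ᵁ D) := by
    rw [Scheme.basicOpen_res, d.hg, Scheme.Hom.image_preimage_eq_opensRange_inf, Scheme.Opens.opensRange_ι,
      ← inf_assoc, inf_eq_left.2 (hDW.trans inf_le_right), inf_comm]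
  let s : Γ(P F U, D) := (P F U).presheaf.map (homOfLE (hDW.trans inf_le_left)).op s₀
  let s' : Γ(F, X.basicOpen g) := F.presheaf.map (homOfLE hb.le).op (s : Γ(F, U.ι ''ᵁ (U.ι ⁻¹ᵁ D)))
  obtain ⟨k, t, ht⟩ := (QCohLib.localizingAt_of_isQCoh hD F g).exists_extend s'
  refine ⟨k, gm F x hxD t, ?_⟩
  have hz : X.presheaf.germ D x hxD g = d.z := TopCat.Presheaf.germ_res_apply _ _ _ _ _
  have hs : gm (P F U) x hxD s = n := (gm_map _ _ _ _ s₀).trans hs₀
  rw [gm_app, ← hs, ← hz, ← map_pow, ← gm_smul]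
  refine congrArg (gm (P F U) x hxD) ?_
  show toF _ = toF _
  rw [toF_smul]
  show (j F U).app _ t = _
  rw [j_app]
  have h2 := congrArg (F.presheaf.map (homOfLE hb.ge).op) ht
  rw [QCohLib.map_smul'] at h2
  refine (Eq.trans ?_ h2).trans ?_
  · exact (QCohLib.map_map' F (homOfLE hb.ge) (homOfLE (X.basicOpen_le g)) t).symm
  · refine congrArg₂ (· • ·) ?_ ?_
    · rw [map_pow, map_pow, ← CommRingCat.comp_apply, ← Functor.map_comp]
      rfl
    · refine (QCohLib.map_map' F (homOfLE hb.ge) (homOfLE hb.le) _).trans ?_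
      exact ConcreteCategory.congr_hom (F.presheaf.map_id _) _

theorem injective_j (hz : ∀ m : (St x).obj F, d.z • m = 0 → m = 0) :
    Function.Injective ((St x).map (j F U)).hom := by
  rw [← LinearMap.ker_eq_bot, LinearMap.ker_eq_bot']
  intro a ha
  obtain ⟨W, hxW, s, rfl⟩ := exists_gm_eq F x a
  rw [gm_app] at ha
  obtain ⟨W', hxW', i₁, i₂, hW'⟩ := TopCat.Presheaf.germ_eq (P F U).presheaf x hxW hxW
    ((j F U).app W s) 0 (ha.trans (gm_zero (P F U) x hxW).symm)
  rw [map_zero] at hW'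
  obtain ⟨D, hD, hxD, hDW⟩ := TopologicalSpace.Opens.isBasis_iff_nbhd.mp X.isBasis_affineOpens
    (show x ∈ W' ⊓ d.V from ⟨hxW', d.hx⟩)
  have hW'' : (j F U).app W' (F.presheaf.map i₁.op s) = 0 := (QCohLib.app_map (j F U) i₁ s).trans hW'
  rw [j_app] at hW''
  let g : Γ(X, D) := X.presheaf.map (homOfLE (hDW.trans inf_le_right)).op d.g
  let t : Γ(F, D) := F.presheaf.map (homOfLE ((hDW.trans inf_le_left).trans i₁.le)).op s
  have hle : X.basicOpen g ≤ U.ι ''ᵁ (U.ι ⁻¹ᵁ W') := by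
    rw [Scheme.basicOpen_res, d.hg, Scheme.Hom.image_preimage_eq_opensRange_inf, Scheme.Opens.opensRange_ι]
    exact le_inf (inf_le_right.trans inf_le_right) (inf_le_left.trans (hDW.trans inf_le_left))
  obtain ⟨k, hk⟩ := (QCohLib.localizingAt_of_isQCoh hD F g).eq_zero t (by
    have h1 := congrArg (F.presheaf.map (homOfLE hle).op) hW''
    rw [map_zero, QCohLib.map_map', QCohLib.map_map'] at h1
    rw [QCohLib.map_map']
    exact h1)
  have h2 := congrArg (gm F x hxD) hk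
  rw [gm_smul, map_pow, gm_zero, TopCat.Presheaf.germ_res_apply, TopCat.Presheaf.germ_res_apply] at h2
  rw [← gm_map F ((hDW.trans inf_le_left).trans i₁.le) x hxD]
  show gm F x hxD t = 0
  exact pow_smul_eq_zero hz k _ h2

end ModifPtLib

end
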