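import Groth.Agent.ModifPtLib.Curve
import Groth.Agent.ModifPtLib.Free
import Groth.Agent.ModifPtLib.Emb
import Groth.Agent.NodalLib.NodalChar
import Groth.Agent.TFNodalLib.Node
import Groth.Agent.FittStratLib.GenericNhd
import Groth.Agent.KleimanLib.GenSmooth
import Groth.Agent.SurfExtLib.CBIdeal
import Groth.Agent.AmpleQSecLib.Main
import Groth.Agent.StabLib.FibreZero
import Groth.Agent.LocFreeCorepLib.Main
import Groth.Agent.ExactHpLib.QTest
import Groth.Agent.RhoBigLib.Free
import Groth.Agent.AmpleDevLib.Devissage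
import Groth.Agent.InjModLib.ExtCrit

/-!
# Torsion-free sheaves of rank one on nodal curves
-/

set_option autoImplicit false
set_option maxHeartbeats 1000000
set_option linter.style.haveILetI false
set_option backward.isDefEq.respectTransparency false
universe u

open CategoryTheory CategoryTheory.Limits AlgebraicGeometry TopologicalSpace Opposite DevissLib
open CycDivLib (primeOf)
open scoped nonZeroDivisors

noncomputable section

namespace ModifPtLib

variable (k : Type u) [Field k] [IsAlgClosed k] {X : Scheme.{u}} [X.Over (Spec (CommRingCat.of k))]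
  [IsProper (X ↘ (Spec (CommRingCat.of k)))]

include k in
theorem infinite_residueField (x : X) : Infinite (IsLocalRing.ResidueField (X.presheaf.stalk x)) := by
  letI := Curv2.stalkAlgebra k X x
  exact Infinite.of_injective _ (algebraMap k (IsLocalRing.ResidueField (X.presheaf.stalk x))).injective

theorem exists_nodeRing_stalk [IsReduced X] (hdim : topologicalKrullDim X ≤ 1) {x : X} (hx : Curv2.IsNode k X x) :
    ∃ z w : X.presheaf.stalk x, NodeRing z w := by
  haveI := CurvLib.isNoetherian k (X := X)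
  haveI := infinite_residueField k x
  letI := Curv2.stalkAlgebra k X x
  haveI := NodalLib.essFiniteType_stalk k x
  obtain ⟨-, hQ, hR⟩ := NodalLib.isGeoNode_facts ((NodalLib.isNode_iff k x).1 hx).2
  haveI := hR
  exact exists_nodeRing hQ (NormGenusLib.deltaInv_node hdim hx)

theorem regular_of_not_node (hX : Curv2.AtWorstNodal k X) {x : X} (hc : IsClosed ({x} : Set X))
    (hn : ¬ Curv2.IsNode k X x) : IsRegularLocalRing (X.presheaf.stalk x) := by
  obtain ⟨U, hxU, hU⟩ := (hX x hc).resolve_right hn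
  haveI := hU
  haveI := KleimanLib.regular_of_smooth (U.ι ≫ (X ↘ Spec (CommRingCat.of k))) (⟨x, hxU⟩ : U)
  exact IsRegularLocalRing.of_ringEquiv (asIso (U.ι.stalkMap ⟨x, hxU⟩)).commRingCatIsoToRingEquiv.symm

theorem dim_regular_le (hdim : topologicalKrullDim X ≤ 1) (x : X) : ringKrullDim (X.presheaf.stalk x) ≤ 1 :=
  (MiscFlat6.ringKrullDim_stalk_le X x).trans hdim

/-- The stalks of a torsion-free sheaf of rank one: free off the nodes, free or maximal at a node. -/
theorem stalk_cases (hdim : topologicalKrullDim X ≤ 1) (hX : Curv2.AtWorstNodal k X)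
    (L : X.Modules) (hLc : Coh.IsCoh L) (hLt : TorSh.IsTorsionFree L)
    (hrk : ∀ η : X, closure ({η} : Set X) ∈ irreducibleComponents (X : Type u) →
      Module.finrank (X.presheaf.stalk η) (L.presheaf.stalk η) = 1) (x : X) :
    Nonempty (L.presheaf.stalk x ≃ₗ[X.presheaf.stalk x] X.presheaf.stalk x) ∨
      (Curv2.IsNode k X x ∧ Nonempty (L.presheaf.stalk x ≃ₗ[X.presheaf.stalk x] IsLocalRing.maximalIdeal (X.presheaf.stalk x))) := by
  haveI := CurvLib.isNoetherian k (X := X)
  haveI := NodalLib.isReduced k hX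
  haveI : Coh.IsQCoh L := hLc.1
  let A := X.presheaf.stalk x
  haveI : Module.Finite A (L.presheaf.stalk x) := by
    haveI := DevissLib.isNoetherian_stalk hLc x
    exact inferInstanceAs (Module.Finite A ((St x).obj L))
  have htf : ∀ s ∈ A⁰, ∀ m : L.presheaf.stalk x, s • m = 0 → m = 0 := fun s hs m hm => by
    refine (hLt x).isSMulRegular (isRegular_iff_mem_nonZeroDivisors.2 hs) ?_
    show s • m = s • (0 : L.presheaf.stalk x)
    rw [hm, smul_zero]
  by_cases hgen : FinPicLib.IsGen x
  · left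
    have hK := SubtrBlowLib.isField_stalk (Y := X) (y := x) hgen
    letI := hK.toField
    exact ⟨(Module.finBasisOfFinrankEq A (L.presheaf.stalk x)
      (hrk x (FittStratLib.closure_mem_irreducibleComponents x hgen))).equivFun.trans (LinearEquiv.funUnique (Fin 1) A A)⟩
  obtain ⟨φ, hφ, s, hs, hsr⟩ := exists_embedding (A := A) (M := L.presheaf.stalk x) htf fun q hq => by
    let p : PrimeSpectrum A := ⟨q, hq.1.1⟩
    have hξ : EquidimLib.stalkPt x p ⤳ x := EquidimLib.stalkPt_specializes x p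
    have hpp : primeOf hξ = p := DiagTorLib.primeOf_stalkPt p
    have hg : ∀ y, y ⤳ EquidimLib.stalkPt x p → y = EquidimLib.stalkPt x p := fun y hy => by
      obtain ⟨p', rfl⟩ := EquidimLib.exists_stalkPt (hy.trans hξ)
      have hle : p' ≤ p := EquidimLib.le_of_stalkPt hy
      exact congrArg _ (le_antisymm hle (hq.2 ⟨p'.2, bot_le⟩ hle))
    obtain ⟨x0, h1, h2⟩ := exists_localGen L hξ (SubtrBlowLib.isField_stalk hg)
      (hrk _ (FittStratLib.closure_mem_irreducibleComponents _ hg))
    rw [hpp] at h1 h2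
    exact ⟨x0, fun t ht => h1 t ht, h2⟩
  have hc := isClosed_of_not_isGen hdim hgen
  by_cases hn : Curv2.IsNode k X x
  · obtain ⟨z, w, hA⟩ := exists_nodeRing_stalk k hdim hn
    obtain ⟨n, hn'⟩ : ∃ n, z ^ n ∈ Ideal.span {s} := by
      have : z ∈ (Ideal.span {s}).radical := by
        rw [← Ideal.sInf_minimalPrimes, Submodule.mem_sInf]
        intro q hq
        haveI := hq.1.1
        suffices h : q = IsLocalRing.maximalIdeal A by exact h ▸ hA.zm
        by_contra hne
        have hlt : q < IsLocalRing.maximalIdeal A := lt_of_le_of_ne (IsLocalRing.le_maximalIdeal hq.1.1.ne_top) hne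
        obtain ⟨q₀, hq₀, hq₀le⟩ := Ideal.exists_minimalPrimes_le (I := (⊥ : Ideal A)) (J := q) bot_le
        let a₀ : PrimeSpectrum A := ⟨q₀, hq₀.1.1⟩
        let a₁ : PrimeSpectrum A := ⟨q, hq.1.1⟩
        let a₂ : PrimeSpectrum A := ⟨IsLocalRing.maximalIdeal A, inferInstance⟩
        have h01 : a₀ < a₁ := lt_of_le_of_ne hq₀le fun e => by
          have hs0 : s ∈ q₀ := by
            rw [show q₀ = q from congrArg PrimeSpectrum.asIdeal e]
            exact hq.1.2 (Ideal.mem_span_singleton_self s)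
          exact Set.disjoint_left.1 (Ideal.disjoint_nonZeroDivisors_of_mem_minimalPrimes hq₀) hs0 hs
        let c : LTSeries (PrimeSpectrum A) :=
          ((RelSeries.singleton _ a₀).snoc a₁ h01).snoc a₂ (by rw [RelSeries.last_snoc]; exact hlt)
        have h3 : ((c.length : ℕ∞) : WithBot ℕ∞) ≤ ((1 : ℕ) : WithBot ℕ∞) :=
          (Order.LTSeries.length_le_krullDim c).trans (dim_regular_le hdim x)
        rw [show c.length = 2 from rfl] at h3
        exact absurd h3 (by norm_num)
      exact this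
    rcases hA.free_or_maximalIdeal φ hφ (n := n) (by
      obtain ⟨c, hc'⟩ := Ideal.mem_span_singleton'.1 hn'
      rw [← hc']
      exact Submodule.smul_mem _ c hsr) with h | h
    · exact Or.inl h
    · exact Or.inr ⟨hn, h⟩
  left
  haveI := regular_of_not_node k hX hc hn
  haveI : IsDomain A := CommAlgDim.isDomain_of_isRegularLocalRing A
  haveI := hLt x
  haveI := RhoBigLib.free_of_torsionFree (M := L.presheaf.stalk x) (dim_regular_le hdim x)
  obtain ⟨v, hv⟩ := hsr
  have hv0 : v ≠ 0 := fun h => nonZeroDivisors.ne_zero hs (by rw [← hv, h, map_zero])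
  haveI : Nontrivial (L.presheaf.stalk x) := ⟨⟨v, 0, hv0⟩⟩
  refine ⟨(Module.finBasisOfFinrankEq A (L.presheaf.stalk x) (le_antisymm ?_ ?_)).equivFun.trans
    (LinearEquiv.funUnique (Fin 1) A A)⟩
  · rw [← Module.finrank_self A]
    exact LinearMap.finrank_le_finrank_of_injective hφ
  · exact Nat.one_le_iff_ne_zero.2 (Module.finrank_pos (R := A) (M := L.presheaf.stalk x)).ne'

omit [IsAlgClosed k] [IsProper (X ↘ (Spec (CommRingCat.of k)))] in
theorem stalk_iso_of_restrict {Y : Scheme.{u}} {L : Y.Modules} {U : Y.Opens} {m : ℕ} (e : L.restrict U.ι ≅ FlatMod.freeMod (↑U) m)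
    {P : Y} (hP : P ∈ U) (h1 : m = 1) :
    Nonempty (L.presheaf.stalk P ≃ₗ[Y.presheaf.stalk P] Y.presheaf.stalk P) := by
  subst h1
  obtain ⟨f⟩ := CurveVBLib.nonempty_stalk_pi_on e hP
  exact ⟨f.trans (LinearEquiv.funUnique (Fin 1) _ _)⟩

omit [IsAlgClosed k] [IsProper (X ↘ (Spec (CommRingCat.of k)))] in
theorem rank_eq_one {Y : Scheme.{u}} {L : Y.Modules} {U : Y.Opens} {m : ℕ} (e : L.restrict U.ι ≅ FlatMod.freeMod (↑U) m)
    {P : Y} (hP : P ∈ U) (h : Nonempty (L.presheaf.stalk P ≃ₗ[Y.presheaf.stalk P] Y.presheaf.stalk P)) : m = 1 := by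
  obtain ⟨f⟩ := CurveVBLib.nonempty_stalk_pi_on e hP
  obtain ⟨g⟩ := h
  have h1 := LinearEquiv.finrank_eq (f.symm.trans g)
  rwa [Module.finrank_fin_fun, Module.finrank_self] at h1

theorem exists_iso_idealMod_tensor (hdim : topologicalKrullDim X ≤ 1) (hX : Curv2.AtWorstNodal k X)
    (L : X.Modules) (hLc : Coh.IsCoh L) (hLt : TorSh.IsTorsionFree L)
    (hrk : ∀ η : X, closure ({η} : Set X) ∈ irreducibleComponents (X : Type u) →
      Module.finrank (X.presheaf.stalk η) (L.presheaf.stalk η) = 1) :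
    ∃ (T : Finset X) (hT : IsClosed (T : Set X)) (M : X.Modules),
      PicF.IsInvertible M ∧
      {P : X | ¬ ∃ U : X.Opens, P ∈ U ∧ Nonempty (L.restrict U.ι ≅ Coh.structureModule (↑U : Scheme.{u}))} = ↑T ∧
      (∀ P ∈ T, IsClosed ({P} : Set X)) ∧
      (∃ j : L ⟶ M, Mono j ∧ (∀ p ∉ T, Function.Bijective ((St p).map j).hom) ∧
        (∀ p ∈ T, LinearMap.range ((St p).map j).hom = IsLocalRing.maximalIdeal (X.presheaf.stalk p) • ⊤)) ∧
      Nonempty (L ≅ CohB1.tensorMod (ClSub.idealMod (SurfExtLib.ptsI T hT)) M) := by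
  classical
  haveI := CurvLib.isNoetherian k (X := X)
  haveI := NodalLib.isReduced k hX
  let S : Set X := {P | ¬ Nonempty (L.presheaf.stalk P ≃ₗ[X.presheaf.stalk P] X.presheaf.stalk P)}
  have hcases := stalk_cases k hdim hX L hLc hLt hrk
  have hnode : ∀ P ∈ S, Curv2.IsNode k X P := fun P hP => ((hcases P).resolve_left hP).1
  have hScl : IsClosed S := by
    rw [← isOpen_compl_iff, isOpen_iff_forall_mem_open]
    intro P hP
    have hP' : Nonempty (L.presheaf.stalk P ≃ₗ[X.presheaf.stalk P] X.presheaf.stalk P) := not_not.1 hP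
    haveI : Module.Free (X.presheaf.stalk P) (L.presheaf.stalk P) := Module.Free.of_equiv hP'.some.symm
    obtain ⟨U, m, hPU, ⟨e⟩⟩ := CohFlatEtLib.exists_free_nhd_of_stalk L hLc P
    exact ⟨U, fun Q hQ => not_not.2 (stalk_iso_of_restrict e hQ (rank_eq_one e hPU hP')), U.2, hPU⟩
  have hSfin : S.Finite := by
    obtain ⟨C, hCfin, hCc, hCi, hSC⟩ := TopologicalSpace.NoetherianSpace.exists_finite_set_isClosed_irreducible hScl
    rw [hSC]
    refine hCfin.sUnion fun t ht => ?_
    obtain ⟨η, hη⟩ := QuasiSober.sober (hCi t ht) (hCc t ht)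
    have hηt : η ∈ t := hη.def ▸ subset_closure (Set.mem_singleton η)
    refine (Set.finite_singleton η).subset fun w hw => ?_
    exact (FinPicLib.eq_of_specializes_of_not_isGen hdim
      (fun hg => TFNodalLib.not_node_of_isGen k X hg (hnode η (hSC ▸ Set.mem_sUnion_of_mem hηt ht)))
      (specializes_iff_mem_closure.2 (hη.def.symm ▸ hw))).symm
  let T := hSfin.toFinset
  have hmem : ∀ P, P ∈ T ↔ P ∈ S := fun P => hSfin.mem_toFinset
  have hgen : ∀ P ∈ T, ¬ FinPicLib.IsGen P := fun P hP hg =>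
    TFNodalLib.not_node_of_isGen k X hg (hnode P ((hmem P).1 hP))
  have hpts : ∀ P ∈ T, IsClosed ({P} : Set X) := fun P hP => isClosed_of_not_isGen hdim (hgen P hP)
  have hT : IsClosed (T : Set X) := by
    have h := Set.Finite.isClosed_biUnion (Finset.finite_toSet T) (f := fun x : X => ({x} : Set X))
      fun x hx => hpts x hx
    rwa [Set.biUnion_of_singleton] at h
  obtain ⟨D, hD⟩ := exists_data hdim T hgen
  have e0 := fun P (hP : P ∈ S) => ((hcases P).resolve_left hP).2.some
  let φ : ∀ P, (St P).obj L →ₗ[X.presheaf.stalk P] X.presheaf.stalk P := fun P =>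
    if hP : P ∈ S then (IsLocalRing.maximalIdeal (X.presheaf.stalk P)).subtype ∘ₗ (e0 P hP).toLinearMap else 0
  have hφ : ∀ P (hP : P ∈ S) m, φ P m = (e0 P hP m : X.presheaf.stalk P) := fun P hP m => by
    simp only [φ, dif_pos hP]
    rfl
  have hφinj : ∀ P ∈ S, Function.Injective (φ P) := fun P hP a b h => by
    rw [hφ P hP, hφ P hP] at h
    exact (e0 P hP).injective (Subtype.ext h)
  obtain ⟨G, j, hG, hj, hout, hin⟩ := exists_up L hLc T hpts D
    (fun P hP m hm => (hLt P).isSMulRegular (isRegular_iff_mem_nonZeroDivisors.2 (hD P hP).1)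
      (show (D.d P hP).z • (show L.presheaf.stalk P from m) = (D.d P hP).z • (0 : L.presheaf.stalk P) by
        rw [smul_zero]; exact hm))
    (fun P => X.presheaf.stalk P) φ (fun P hP => hφinj P ((hmem P).1 hP))
    (fun P hP => ⟨1, fun v => ⟨(e0 P ((hmem P).1 hP)).symm ⟨(D.d P hP).z * v, Ideal.mul_mem_right _ _ (hD P hP).2⟩, by
      rw [hφ P ((hmem P).1 hP), LinearEquiv.apply_symm_apply, pow_one]; rfl⟩⟩)
    (fun P hP v hv => mem_nonZeroDivisors_iff_right.1 (hD P hP).1 _ (by rw [mul_comm]; exact hv))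
  have hLfree : ∀ P ∉ T, Nonempty (L.presheaf.stalk P ≃ₗ[X.presheaf.stalk P] X.presheaf.stalk P) := fun P hP =>
    not_not.1 fun h => hP ((hmem P).2 h)
  have hG1 : FlatMod.IsFinLocFreeOfRank 1 G := isFinLocFreeOfRank_of_stalk G hG 1 fun P => by
    refine Nonempty.map (fun e : (St P).obj G ≃ₗ[X.presheaf.stalk P] X.presheaf.stalk P => e.trans (LinearEquiv.funUnique (Fin 1) _ _).symm) ?_
    by_cases hP : P ∈ T
    · exact ⟨(hin P hP).choose⟩
    · exact ⟨(LinearEquiv.ofBijective _ (hout P hP)).symm.trans (hLfree P hP).some⟩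
  have hGinv := AmpleQSecLib.isInvertible_of_rank_one hG1
  have hrange : ∀ P ∈ T, LinearMap.range ((St P).map j).hom =
      IsLocalRing.maximalIdeal (X.presheaf.stalk P) • (⊤ : Submodule (X.presheaf.stalk P) ((St P).obj G)) := by
    intro P hP
    obtain ⟨e, he⟩ := hin P hP
    refine le_antisymm ?_ (Submodule.smul_le.2 fun c hc g _ => ?_)
    · rintro _ ⟨m, rfl⟩
      have h1 : ((St P).map j).hom m = φ P m • e.symm 1 := e.injective (by
        rw [map_smul, LinearEquiv.apply_symm_apply, smul_eq_mul, mul_one, he])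
      rw [h1]
      refine Submodule.smul_mem_smul ?_ trivial
      rw [hφ P ((hmem P).1 hP)]
      exact (e0 P ((hmem P).1 hP) m).2
    · refine ⟨(e0 P ((hmem P).1 hP)).symm ⟨c * e g, Ideal.mul_mem_right _ _ hc⟩, e.injective ?_⟩
      rw [he, hφ P ((hmem P).1 hP), LinearEquiv.apply_symm_apply, map_smul, smul_eq_mul]
  have hS : {P : X | ¬ ∃ U : X.Opens, P ∈ U ∧ Nonempty (L.restrict U.ι ≅ Coh.structureModule (↑U : Scheme.{u}))} = ↑T := by
    ext P
    rw [Set.mem_ofPred_eq, Finset.mem_coe]
    constructor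
    · intro h
      by_contra hP
      haveI : Module.Free (X.presheaf.stalk P) (L.presheaf.stalk P) := Module.Free.of_equiv (hLfree P hP).some.symm
      obtain ⟨U, m, hPU, ⟨e⟩⟩ := CohFlatEtLib.exists_free_nhd_of_stalk L hLc P
      refine h ⟨U, hPU, ?_⟩
      have hm : m = 1 := rank_eq_one e hPU (hLfree P hP)
      subst hm
      exact ⟨e ≪≫
        { hom := Sigma.desc fun _ => 𝟙 _
          inv := Sigma.ι (fun _ : Fin 1 => Coh.structureModule (U : Scheme.{u})) 0
          hom_inv_id := Sigma.hom_ext _ _ fun i => by fin_cases i; simp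
          inv_hom_id := Sigma.ι_desc _ _ }⟩
    · rintro hP ⟨U, hPU, ⟨e⟩⟩
      have hPS := (hmem P).1 hP
      let e1 : L.restrict U.ι ≅ FlatMod.freeMod (↑U) 1 := e ≪≫
        { hom := Sigma.ι (fun _ : Fin 1 => Coh.structureModule (U : Scheme.{u})) 0
          inv := Sigma.desc fun _ => 𝟙 _
          hom_inv_id := Sigma.ι_desc _ _
          inv_hom_id := Sigma.hom_ext _ _ fun i => by fin_cases i; simp }
      exact hPS (stalk_iso_of_restrict e1 hPU rfl)
  -- the comparison
  let μ : CohB1.tensorMod G (ClSub.idealMod (SurfExtLib.ptsI T hT)) ⟶ G := SurfExtLib.muHom G (SurfExtLib.ptsI T hT)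
  have hμr : ∀ P, LinearMap.range ((St P).map μ).hom = LinearMap.range ((St P).map j).hom := fun P => by
    by_cases hP : P ∈ T
    · exact (SurfExtLib.range_muHom T hT G hpts hP).trans (hrange P hP).symm
    · rw [LinearMap.range_eq_top.2 (SurfExtLib.muHom_surjective T hT G hpts hP),
        LinearMap.range_eq_top.2 (hout P hP).2]
  have hμi : ∀ P, Function.Injective ((St P).map μ).hom := fun P => by
    obtain ⟨e⟩ : Nonempty (G.presheaf.stalk P ≃ₗ[X.presheaf.stalk P] X.presheaf.stalk P) := by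
      by_cases hP : P ∈ T
      · exact ⟨(hin P hP).choose⟩
      · exact ⟨(LinearEquiv.ofBijective _ (hout P hP)).symm.trans (hLfree P hP).some⟩
    refine (injective_iff_map_eq_zero _).2 fun v hv => ?_
    obtain ⟨t, rfl⟩ := (KFlatLib.stalkTensorLin_bijective G (ClSub.idealMod (SurfExtLib.ptsI T hT)) P).2 v
    obtain ⟨a, rfl⟩ : ∃ a, t = (e.symm 1) ⊗ₜ a := by
      clear hv
      induction t using TensorProduct.induction_on with
      | zero => exact ⟨0, (TensorProduct.tmul_zero _ _).symm⟩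
      | tmul g a => exact ⟨e g • a, by
          rw [← TensorProduct.smul_tmul, ← map_smul, smul_eq_mul, mul_one, LinearEquiv.symm_apply_apply]⟩
      | add p q hp hq =>
        obtain ⟨a, rfl⟩ := hp
        obtain ⟨b, rfl⟩ := hq
        exact ⟨a + b, (TensorProduct.tmul_add _ _ _).symm⟩
    obtain ⟨c, hc⟩ := SurfExtLib.exists_smul_oneAt P (FLI.sMap (ClSub.idealModι (SurfExtLib.ptsI T hT)) P a)
    have h1 : c • e.symm 1 = 0 := (SurfExtLib.muHom_stalk G _ P (e.symm 1) a c hc.symm).symm.trans hv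
    have hc0 : c = 0 := by
      have := congrArg e h1
      rwa [map_smul, LinearEquiv.apply_symm_apply, map_zero, smul_eq_mul, mul_one] at this
    have ha : a = 0 := by
      haveI : Mono ((St P).map (ClSub.idealModι (SurfExtLib.ptsI T hT))) := by
        haveI : Mono (ClSub.idealModι (SurfExtLib.ptsI T hT)) := by
          unfold ClSub.idealModι; infer_instance
        infer_instance
      refine (ModuleCat.mono_iff_injective ((St P).map (ClSub.idealModι (SurfExtLib.ptsI T hT)))).1 inferInstance ?_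
      rw [map_zero]
      exact hc.symm.trans (by rw [hc0, zero_smul])
    rw [ha, TensorProduct.tmul_zero, map_zero]
  have hμ0 : μ ≫ cokernel.π j = 0 := by
    refine InjModLib.hom_ext_stalks _ _ fun P v => ?_
    rw [Functor.map_comp, ModuleCat.hom_comp, LinearMap.comp_apply, Functor.map_zero]
    obtain ⟨m, hm⟩ : ((St P).map μ).hom v ∈ LinearMap.range ((St P).map j).hom := hμr P ▸ ⟨v, rfl⟩
    exact (PrimDecLib.cokernel_π_eq_zero_iff j P _).2 ⟨m, hm⟩
  haveI := hj
  obtain ⟨θ, hθ⟩ : ∃ θ : CohB1.tensorMod G (ClSub.idealMod (SurfExtLib.ptsI T hT)) ⟶ L, θ ≫ j = μ :=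
    ⟨Abelian.monoLift j μ hμ0, Abelian.monoLift_comp j μ hμ0⟩
  have hθb : ∀ P, Function.Bijective ((St P).map θ).hom := fun P => by
    have hcomp : ∀ v, ((St P).map j).hom (((St P).map θ).hom v) = ((St P).map μ).hom v := fun v => by
      rw [← ModuleCat.comp_apply, ← Functor.map_comp, hθ]
    have hjinj : Function.Injective ((St P).map j).hom := by
      haveI : Mono ((St P).map j) := inferInstance
      exact (ModuleCat.mono_iff_injective _).1 inferInstance
    refine ⟨fun a b h => hμi P (by rw [← hcomp, ← hcomp, h]), fun m => ?_⟩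
    obtain ⟨v, hv⟩ : ((St P).map j).hom m ∈ LinearMap.range ((St P).map μ).hom := (hμr P).symm ▸ ⟨m, rfl⟩
    exact ⟨v, hjinj ((hcomp v).trans hv)⟩
  haveI : IsIso θ := KFlatLib.isIso_of_stalks θ fun P => (ConcreteCategory.isIso_iff_bijective _).2 (hθb P)
  exact ⟨T, hT, G, hGinv, hS, hpts, ⟨j, hj, hout, hrange⟩, ⟨(asIso θ).symm ≪≫ AmpleDevLib.tensComm _ _⟩⟩

end ModifPtLib

end
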