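import Groth.Agent.ModifPtLib.Open
import Groth.Agent.PrimDecLib.Basic
import Groth.Agent.RpushLib.FlatPull
import Groth.Agent.CohFlatEtLib.FreeStalk

/-!
# Modifications of coherent modules at finitely many closed points
-/

set_option autoImplicit false
set_option maxHeartbeats 800000
set_option linter.style.haveILetI false
set_option backward.isDefEq.respectTransparency false
universe u

open CategoryTheory CategoryTheory.Limits AlgebraicGeometry TopologicalSpace Opposite DevissLib

noncomputable section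

namespace ModifPtLib

variable {X : Scheme.{u}}

/-- A map with values in a submodule given by a local condition. -/
def locLift {A B : X.Modules} (S : QCohLib.LocSub B) (φ : A ⟶ B)
    (h : ∀ (V : X.Opens) (a : Γ(A, V)), S.mem V (φ.app V a)) : A ⟶ S.toModules :=
  ⟨PresheafOfModules.homMk (M₁ := A.val) (M₂ := S.pmod)
    { app := fun V => AddCommGrpCat.ofHom (AddMonoidHom.mk'
        (fun a : Γ(A, V.unop) => (⟨φ.app V.unop a, h V.unop a⟩ : S.sub V.unop))
        fun a b => Subtype.ext (map_add (φ.app V.unop).hom a b))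
      naturality := fun {V W} i => by
        refine ConcreteCategory.hom_ext _ _ fun (a : Γ(A, V.unop)) => ?_
        exact Subtype.ext (QCohLib.app_map φ i.unop a) }
    fun V r a => Subtype.ext (Scheme.Modules.Hom.app_smul φ r a)⟩

theorem locLift_ι {A B : X.Modules} (S : QCohLib.LocSub B) (φ : A ⟶ B)
    (h : ∀ (V : X.Opens) (a : Γ(A, V)), S.mem V (φ.app V a)) : locLift S φ h ≫ S.ι = φ :=
  Scheme.Modules.hom_ext _ _ fun V => ConcreteCategory.hom_ext _ _ fun _ => rfl

theorem injective_St_ι {B : X.Modules} (S : QCohLib.LocSub B) (p : X) :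
    Function.Injective ((St p).map S.ι).hom :=
  haveI : Mono ((St p).map S.ι) := inferInstance
  (ModuleCat.mono_iff_injective _).1 inferInstance

/-- The sheaf of sections of `M` with germs in `Q x`: stalks at the chosen points. -/
theorem mem_range_LS {M : X.Modules} (T : Finset X) (hT : ∀ x ∈ T, IsClosed ({x} : Set X))
    (Q : ∀ x : X, Submodule (X.presheaf.stalk x) ((St x).obj M)) (p : X) (a : (St p).obj M) :
    a ∈ LinearMap.range ((St p).map (PrimDecLib.LS M T Q).ι).hom ↔ (p ∈ T → a ∈ Q p) := by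
  classical
  rw [LinearMap.mem_range, PrimDecLib.mem_range_ι_iff]
  constructor
  · rintro ⟨V, hp, s, hs, rfl⟩ hpT
    exact hs p hpT hp
  · intro h
    obtain ⟨V, hp, s, rfl⟩ := exists_gm_eq M p a
    let O : X.Opens := ⟨((↑(T.erase p) : Set X))ᶜ,
      (Set.Finite.isClosed_biUnion (Finset.finite_toSet (T.erase p)) (f := fun x : X => ({x} : Set X))
        fun x hx => hT x (Finset.mem_of_mem_erase hx)).isOpen_compl |> fun h => by
          rwa [Set.biUnion_of_singleton] at h⟩
    have hpO : p ∈ V ⊓ O := ⟨hp, fun h => (Finset.notMem_erase p T) h⟩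
    refine ⟨V ⊓ O, hpO, M.presheaf.map (homOfLE inf_le_left).op s, fun z hz hzW => ?_, gm_map M _ p hpO s⟩
    obtain rfl : z = p := by
      by_contra hne
      exact hzW.2 (Finset.mem_coe.2 (Finset.mem_erase.2 ⟨hne, hz⟩))
    rw [gm_map]
    exact h hz

/-- An equation of the removed points near each of them. -/
structure Data (T : Finset X) where
  U : X.Opens
  hU : ∀ p, p ∈ U ↔ p ∉ T
  d : ∀ x ∈ T, Punct U x

theorem Data.isClosed {T : Finset X} (D : Data T) {x : X} (hx : x ∈ T)
    (hT : ∀ x ∈ T, ∀ y ∈ T, x ⤳ y → x = y) : IsClosed ({x} : Set X) := by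
  rw [← closure_subset_iff_isClosed]
  intro y hy
  have hxy := specializes_iff_mem_closure.2 hy
  by_cases hyT : y ∈ T
  · exact (hT x hx y hyT hxy).symm
  · exact absurd hx ((D.hU x).1 (hxy.mem_open D.U.2 ((D.hU y).2 hyT)))

/-- Enlarging a coherent module at finitely many closed points. -/
theorem exists_up [IsNoetherian X] (F : X.Modules) (hF : Coh.IsCoh F) (T : Finset X)
    (hT : ∀ x ∈ T, IsClosed ({x} : Set X)) (D : Data T)
    (hzF : ∀ x (hx : x ∈ T), ∀ m : (St x).obj F, (D.d x hx).z • m = 0 → m = 0)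
    (M : X → Type u) [∀ x, AddCommGroup (M x)] [∀ x, Module (X.presheaf.stalk x) (M x)]
    [∀ x, Module.Finite (X.presheaf.stalk x) (M x)]
    (φ : ∀ x, (St x).obj F →ₗ[X.presheaf.stalk x] M x)
    (hφ : ∀ x ∈ T, Function.Injective (φ x))
    (hk : ∀ x (hx : x ∈ T), ∃ k : ℕ, ∀ v : M x, (D.d x hx).z ^ k • v ∈ LinearMap.range (φ x))
    (hzM : ∀ x (hx : x ∈ T), ∀ v : M x, (D.d x hx).z • v = 0 → v = 0) :
    ∃ (G : X.Modules) (f : F ⟶ G), Coh.IsCoh G ∧ Mono f ∧
      (∀ p ∉ T, Function.Bijective ((St p).map f).hom) ∧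
      ∀ x ∈ T, ∃ e : (St x).obj G ≃ₗ[X.presheaf.stalk x] M x, ∀ m, e (((St x).map f).hom m) = φ x m := by
  classical
  haveI : Coh.IsQCoh F := hF.1
  haveI : Coh.IsQCoh (P F D.U) := QCohLib.isQCoh_pushforward D.U.ι _
  have hψ : ∀ x (_ : x ∈ T), ∃ ψ : M x →ₗ[X.presheaf.stalk x] (St x).obj (P F D.U),
      Function.Injective ψ ∧ ∀ m, ψ (φ x m) = ((St x).map (j F D.U)).hom m := by
    intro x hx
    obtain ⟨k, hk⟩ := hk x hx
    let e₀ := LinearEquiv.ofInjective (φ x) (hφ x hx)
    let φ' : M x →ₗ[X.presheaf.stalk x] (St x).obj F :=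
      e₀.symm.toLinearMap ∘ₗ ((LinearMap.lsmul _ (M x) ((D.d x hx).z ^ k)).codRestrict _ hk)
    have hφ' : ∀ v, φ x (φ' v) = (D.d x hx).z ^ k • v := fun v =>
      congrArg Subtype.val (e₀.apply_symm_apply ((LinearMap.lsmul _ (M x) _).codRestrict _ hk v))
    have hb : Function.Bijective (LinearMap.lsmul (X.presheaf.stalk x) ((St x).obj (P F D.U)) ((D.d x hx).z ^ k)) := by
      have h1 := (bijective_z_smul (F := F) (D.d x hx)).iterate k
      rw [smul_iterate] at h1
      exact h1
    let E := LinearEquiv.ofBijective _ hb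
    refine ⟨E.symm.toLinearMap ∘ₗ ((St x).map (j F D.U)).hom ∘ₗ φ', fun a b hab => ?_, fun m => ?_⟩
    · have h := injective_j (D.d x hx) (hzF x hx) (E.symm.injective hab)
      have h1 : (D.d x hx).z ^ k • (a - b) = 0 := by rw [smul_sub, ← hφ', ← hφ', h, sub_self]
      exact sub_eq_zero.1 (pow_smul_eq_zero (hzM x hx) k _ h1)
    · have h : φ' (φ x m) = (D.d x hx).z ^ k • m := hφ x hx (by rw [hφ', map_smul])
      apply E.injective
      show E (E.symm _) = _
      rw [LinearEquiv.apply_symm_apply]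
      show ((St x).map (j F D.U)).hom (φ' (φ x m)) = (D.d x hx).z ^ k • _
      rw [h, map_smul]
  let Q : ∀ x : X, Submodule (X.presheaf.stalk x) ((St x).obj (P F D.U)) := fun x =>
    if h : x ∈ T then LinearMap.range (hψ x h).choose else ⊤
  have hQ : ∀ x (h : x ∈ T), Q x = LinearMap.range (hψ x h).choose := fun x h => dif_pos h
  let S := PrimDecLib.LS (P F D.U) T Q
  have hmem : ∀ (V : X.Opens) (a : Γ(F, V)), S.mem V ((j F D.U).app V a) := fun V a x hx hxV => by
    rw [← gm_app, hQ x hx]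
    exact ⟨φ x (gm F x hxV a), (hψ x hx).choose_spec.2 _⟩
  have hft : QCohLib.LocSub.FTBelow S ⊤ := by
    intro p _
    obtain ⟨W, hpW, hW⟩ : ∃ W : X.Opens, p ∈ W ∧ ∀ x ∈ T, x ∈ W → x = p := by
      refine ⟨⟨((↑(T.erase p) : Set X))ᶜ, ?_⟩, fun h => (Finset.notMem_erase p T) h,
        fun x hx hxW => ?_⟩
      · have h := (Set.Finite.isClosed_biUnion (Finset.finite_toSet (T.erase p)) (f := fun x : X => ({x} : Set X))
          fun x hx => hT x (Finset.mem_of_mem_erase hx)).isOpen_compl
        rwa [Set.biUnion_of_singleton] at h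
      · by_contra hne
        exact hxW (Finset.mem_coe.2 (Finset.mem_erase.2 ⟨hne, hx⟩))
    -- generators of the stalk at `p` when `p ∈ T`
    obtain ⟨n, v, hv⟩ : ∃ (n : ℕ) (v : Fin n → (St p).obj (P F D.U)),
        (∀ i, p ∈ T → v i ∈ Q p) ∧ (p ∈ T → Q p ≤ Submodule.span _ (Set.range v)) := by
      by_cases hp : p ∈ T
      · obtain ⟨n, v, hv⟩ := Submodule.fg_iff_exists_fin_generating_family.1
          (show (Q p).FG by rw [hQ p hp, LinearMap.range_eq_map]; exact Module.Finite.fg_top.map _)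
        exact ⟨n, v, fun i _ => hv ▸ Submodule.subset_span ⟨i, rfl⟩, fun _ => hv.ge⟩
      · exact ⟨0, Fin.elim0, fun i => i.elim0, fun h => absurd h hp⟩
    choose O hpO s hs using fun i => exists_gm_eq (P F D.U) p (v i)
    obtain ⟨V, hV, hpV, hVW⟩ := TopologicalSpace.Opens.isBasis_iff_nbhd.mp X.isBasis_affineOpens
      (show p ∈ W ⊓ ⟨⋂ i, (O i : Set X), isOpen_iInter_of_finite fun i => (O i).2⟩ from
        ⟨hpW, Set.mem_iInter.2 hpO⟩)
    have hVO : ∀ i, V ≤ O i := fun i y hy => Set.mem_iInter.1 (hVW hy).2 i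
    haveI : IsNoetherianRing Γ(X, V) := IsLocallyNoetherian.component_noetherian ⟨V, hV⟩
    haveI : Module.Finite Γ(X, V) Γ(F, V) := QCohLib.finite_of_isFT hF.2 hV
    obtain ⟨m, t, ht⟩ := Submodule.fg_iff_exists_fin_generating_family.1 (Module.Finite.fg_top (R := Γ(X, V)) (M := Γ(F, V)))
    let w : Fin m ⊕ Fin n → Γ(P F D.U, V) :=
      Sum.elim (fun i => (j F D.U).app V (t i)) fun i => (P F D.U).presheaf.map (homOfLE (hVO i)).op (s i)
    let w' : ULift.{u} (Fin (m + n)) → Γ(P F D.U, V) := fun i => w (finSumFinEquiv.symm i.down)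
    refine ⟨V, le_top, hpV, m + n, w', fun i => ?_, ?_⟩
    · show S.mem V (w _)
      generalize finSumFinEquiv.symm i.down = i'
      rcases i' with i' | i'
      · exact hmem V (t i')
      · intro x hx hxV
        obtain rfl := hW x hx (hVW hxV).1
        show gm _ _ _ ((P F D.U).presheaf.map _ (s i')) ∈ _
        rw [gm_map, hs]
        exact hv.1 i' hx
    intro W' hW' a ha q hqW' hqV
    let gen : Set ((St q).obj (P F D.U)) := Set.range fun i => gm (P F D.U) q hqV (w' i)
    have hspan : gm (P F D.U) q hqW' a ∈ Submodule.span (X.presheaf.stalk q) gen := by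
      by_cases hqT : q ∈ T
      · obtain rfl := hW q hqT (hVW hqV).1
        refine Submodule.span_mono ?_ (hv.2 hqT (ha q hqT hqW'))
        rintro _ ⟨i, rfl⟩
        refine ⟨⟨finSumFinEquiv (Sum.inr i)⟩, ?_⟩
        refine Eq.trans ?_ (hs i)
        simp only [w', w, Equiv.symm_apply_apply, Sum.elim_inr]
        exact gm_map _ _ _ _ _
      · obtain ⟨b, hb⟩ := (bijective_j ((D.hU q).2 hqT)).2 (gm (P F D.U) q hqW' a)
        rw [← hb]
        have hb' : b ∈ Submodule.span (X.presheaf.stalk q) (Set.range fun i => gm F q hqV (t i)) := by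
          letI : Module Γ(X, V) (F.presheaf.stalk q) := Module.compHom _ (X.presheaf.germ V q hqV).hom
          letI : Algebra Γ(X, V) (X.presheaf.stalk q) := (X.presheaf.germ V q hqV).hom.toAlgebra
          haveI : IsScalarTower Γ(X, V) (X.presheaf.stalk q) (F.presheaf.stalk q) :=
            IsScalarTower.of_algebraMap_smul fun _ _ => rfl
          haveI : IsLocalization.AtPrime (X.presheaf.stalk q) (hV.primeIdealOf ⟨q, hqV⟩).asIdeal :=
            hV.isLocalization_stalk ⟨q, hqV⟩
          haveI := FlatLib.isLocalizedModule_germLin F hV hqV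
          have h := span_eq_top_of_isLocalizedModule (X.presheaf.stalk q)
            (hV.primeIdealOf ⟨q, hqV⟩).asIdeal.primeCompl (FlatLib.germLin F hqV) (v := Set.range t) ht
          have h' : b ∈ (⊤ : Submodule (X.presheaf.stalk q) (F.presheaf.stalk q)) := trivial
          rw [← h, ← Set.range_comp] at h'
          exact h'
        have h2 := Submodule.mem_map_of_mem (f := ((St q).map (j F D.U)).hom) hb'
        rw [Submodule.map_span, ← Set.range_comp] at h2
        refine Submodule.span_mono ?_ h2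
        rintro _ ⟨i, rfl⟩
        refine ⟨⟨finSumFinEquiv (Sum.inl i)⟩, Eq.trans ?_ (gm_app (j F D.U) q hqV (t i)).symm⟩
        simp [w', w]
    rw [Submodule.mem_span_range_iff_exists_fun] at hspan
    obtain ⟨c, hc⟩ := hspan
    choose Oc hqOc c' hc' using fun i => X.presheaf.exists_germ_eq (x := q) (c i)
    let W₁ : X.Opens := W' ⊓ ⟨⋂ i, (Oc i : Set X), isOpen_iInter_of_finite fun i => (Oc i).2⟩
    have hqW₁ : q ∈ W₁ := ⟨hqW', Set.mem_iInter.2 hqOc⟩
    have hWOc : ∀ i, W₁ ≤ Oc i := fun i y hy => Set.mem_iInter.1 hy.2 i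
    have h3 : gm (P F D.U) q hqW₁ ((P F D.U).presheaf.map (homOfLE (inf_le_left : W₁ ≤ W')).op a) =
        gm (P F D.U) q hqW₁ (∑ i, X.presheaf.map (homOfLE (hWOc i)).op (c' i) •
          (P F D.U).presheaf.map (homOfLE ((inf_le_left : W₁ ≤ W').trans hW')).op (w' i)) := by
      rw [gm_map, ← hc]
      refine Eq.trans ?_ (map_sum ((P F D.U).presheaf.germ W₁ q hqW₁).hom _ _).symm
      refine Finset.sum_congr rfl fun i _ => ?_
      refine Eq.trans ?_ (gm_smul _ q hqW₁ _ _).symm
      rw [gm_map, TopCat.Presheaf.germ_res_apply, hc']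
    obtain ⟨W₂, hqW₂, i₁, i₂, h4⟩ := TopCat.Presheaf.germ_eq (P F D.U).presheaf q hqW₁ hqW₁ _ _ h3
    refine ⟨W₂, i₁.le.trans inf_le_left, (i₁.le.trans inf_le_left).trans hW', hqW₂,
      fun i => X.presheaf.map (homOfLE (i₁.le.trans (hWOc i))).op (c' i), ?_⟩
    rw [map_sum, QCohLib.map_map'] at h4
    refine (Eq.trans ?_ h4).trans (Finset.sum_congr rfl fun i _ => ?_)
    · rfl
    refine (QCohLib.map_smul' _ _ _ _).trans (congrArg₂ (· • ·) ?_ (QCohLib.map_map' _ _ _ _))
    rw [← CategoryTheory.ConcreteCategory.comp_apply, ← Functor.map_comp]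
    rfl
  refine ⟨S.toModules, locLift S (j F D.U) hmem, ⟨QCohLib.LocSub.isQCoh_toModules S hft,
    QCohLib.LocSub.isFT_toModules S hft⟩, ?_, ?_, ?_⟩
  all_goals
    have hcomp : ∀ p m, ((St p).map S.ι).hom (((St p).map (locLift S (j F D.U) hmem)).hom m) =
        ((St p).map (j F D.U)).hom m := fun p m => by
      rw [← ModuleCat.comp_apply, ← Functor.map_comp, locLift_ι]
  · refine RpushLib.mono_of_stalks _ fun p => (ModuleCat.mono_iff_injective _).2 fun a b hab => ?_
    have h := congrArg ((St p).map S.ι).hom hab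
    erw [hcomp, hcomp] at h
    by_cases hp : p ∈ T
    · exact injective_j (D.d p hp) (hzF p hp) h
    · exact (bijective_j ((D.hU p).2 hp)).1 h
  · intro p hp
    refine ⟨fun a b hab => (bijective_j ((D.hU p).2 hp)).1 (by rw [← hcomp, ← hcomp, hab]), fun b => ?_⟩
    obtain ⟨a, ha⟩ := (bijective_j ((D.hU p).2 hp)).2 (((St p).map S.ι).hom b)
    exact ⟨a, injective_St_ι S p ((hcomp p a).trans ha)⟩
  · intro x hx
    have hr : LinearMap.range ((St x).map S.ι).hom = LinearMap.range (hψ x hx).choose := by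
      ext a
      rw [mem_range_LS T hT Q x, hQ x hx]
      exact ⟨fun h => h hx, fun h _ => h⟩
    let e := (LinearEquiv.ofInjective _ (injective_St_ι S x)).trans
      ((LinearEquiv.ofEq _ _ hr).trans (LinearEquiv.ofInjective _ (hψ x hx).choose_spec.1).symm)
    refine ⟨e, fun m => (hψ x hx).choose_spec.1 ?_⟩
    rw [(hψ x hx).choose_spec.2, ← hcomp]
    show ((LinearEquiv.ofInjective _ (hψ x hx).choose_spec.1)
      ((LinearEquiv.ofInjective _ (hψ x hx).choose_spec.1).symm _)).1 = _
    rw [LinearEquiv.apply_symm_apply]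
    rfl

end ModifPtLib

end
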